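import Cfsg.Agent.Lib.BaseTwo.Structure

/-!
Monomial structure of the field case and the base of size two.
-/

set_option autoImplicit false
set_option linter.unusedSectionVars false

namespace CfsgLib.BaseTwo

universe u

variable {A V : Type u} [Group A] [Finite A] [AddCommGroup V] [Finite V] [DistribMulAction A V]

theorem dot_comm {r d : ℕ} (a b : Fin d → ZMod r) : dot a b = dot b a :=
  Finset.sum_congr rfl fun i _ => mul_comm _ _

theorem dot_add {r d : ℕ} (a b c : Fin d → ZMod r) : dot (a + b) c = dot a c + dot b c := by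
  simp [dot, add_mul, Finset.sum_add_distrib]

theorem dot_add_right {r d : ℕ} (a b c : Fin d → ZMod r) : dot a (b + c) = dot a b + dot a c := by
  simp [dot, mul_add, Finset.sum_add_distrib]

theorem dot_single {r d : ℕ} (b : Fin d → ZMod r) (k : Fin d) : dot b (Pi.single k 1) = b k := by
  simp [dot, Pi.single_apply]

theorem dot_zero {r d : ℕ} (b : Fin d → ZMod r) : dot b 0 = 0 := by simp [dot]

theorem eq_of_dot {r d : ℕ} {b b' : Fin d → ZMod r} (h : ∀ a, dot b a = dot b' a) : b = b' :=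
  funext fun k => by rw [← dot_single b k, ← dot_single b' k, h]

theorem zero_notMem_rigid {r d : ℕ} [Fact r.Prime] (hr : r ≠ 2) : (0 : Fin (d + 1) → ZMod r) ∉ rigidSet r d := by
  rintro (⟨k, h | h⟩ | ⟨i, j, hij, h | h⟩ | h)
  · have := congrFun h k; simp at this
  · have := congrFun h k; simp at this
  · have := congrFun h i; simp [hij.ne] at this
  · have := congrFun h i; simp [hij.ne] at this
  · have := congrFun h 0
    simp at this
    exact two_ne hr this.symm

theorem sq_one_of_ne : ∀ j : ZMod 3, j ≠ 0 → j * j = 1 := by decide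

namespace SympData

variable {U : Subgroup A} {r d : ℕ} [Fact r.Prime] (F : FieldCase A V U) (D : SympData A U r d)

/-- the scalar `ζ^c` -/
abbrev sc (c : ZMod r) : A := zp D.ζ c

/-- the common fixed space of the `X` -/
def W (D : SympData A U r d) (V : Type u) [AddCommGroup V] [DistribMulAction A V] : AddSubgroup V where
  carrier := {v | ∀ b, D.X b • v = v}
  zero_mem' := fun b => smul_zero _
  add_mem' := fun {x y} hx hy b => by rw [smul_add, hx b, hy b]
  neg_mem' := fun {x} hx b => by rw [smul_neg, hx b]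

include D

theorem zeta_pow : D.ζ ^ r = 1 := by
  have h := pow_orderOf_eq_one D.ζ
  rwa [D.order] at h

theorem sc_mem (c : ZMod r) : D.sc c ∈ U := zp_mem D.zmem c

theorem sc_add (a b : ZMod r) : D.sc (a + b) = D.sc a * D.sc b := zp_add D.zeta_pow a b

theorem sc_smul_add (a b : ZMod r) (v : V) : D.sc (a + b) • v = D.sc a • D.sc b • v := by
  rw [D.sc_add, mul_smul]

theorem sc_inj {a b : ZMod r} (h : D.sc a = D.sc b) : a = b := zp_inj D.order h

theorem sc_comm (c : ZMod r) {g : A} (hg : g ∈ D.E) : g * D.sc c = D.sc c * g := D.centU g hg _ (D.sc_mem c)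

theorem X_zero : D.X 0 = 1 := by
  have h := D.addX 0 0; rw [add_zero] at h; exact mul_eq_left.1 h.symm

theorem Y_zero : D.Y 0 = 1 := by
  have h := D.addY 0 0; rw [add_zero] at h; exact mul_eq_left.1 h.symm

theorem rel' (b a : Fin (d + 1) → ZMod r) : D.Y a * D.X b = D.sc (-dot b a) * (D.X b * D.Y a) := by
  rw [D.rel, ← mul_assoc (D.sc _), ← D.sc_add, neg_add_cancel,
    show D.sc (0 : ZMod r) = 1 from zp_zero _, one_mul]

theorem smul_rel (b a : Fin (d + 1) → ZMod r) (v : V) :
    D.X b • D.Y a • v = D.sc (dot b a) • D.Y a • D.X b • v := by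
  rw [← mul_smul, D.rel, mul_smul, mul_smul]

theorem smul_W {v : V} (hv : v ∈ D.W V) (b a : Fin (d + 1) → ZMod r) :
    D.X b • D.Y a • v = D.sc (dot b a) • D.Y a • v := by
  rw [D.smul_rel, hv b]

theorem W_sc {v : V} (hv : v ∈ D.W V) (c : ZMod r) : D.sc c • v ∈ D.W V := fun b => by
  rw [← mul_smul, D.sc_comm c (D.memX b), mul_smul, hv b]

theorem W_scalar {v : V} (hv : v ∈ D.W V) {s : AddMonoid.End V} (hs : s ∈ scalars V U) : s v ∈ D.W V := fun b => by
  have h := commute_of_mem_scalars (f := endo A V (D.X b))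
    (fun u hu => by rw [← map_mul, ← map_mul, D.centU _ (D.memX b) u hu]) hs
  calc D.X b • s v = (endo A V (D.X b) * s) v := rfl
    _ = (s * endo A V (D.X b)) v := by rw [h]
    _ = s (D.X b • v) := rfl
    _ = s v := by rw [hv b]

include F

theorem card_smul_eq_zero {v : V} (h : r • v = 0) : v = 0 := by
  classical
  by_contra hv
  have hr := (Fact.out : r.Prime)
  haveI : Fintype V := Fintype.ofFinite V
  have hdvd : r ∣ Nat.card {x : V // r • x = 0} := by
    let K : AddSubgroup V := (nsmulAddMonoidHom r : V →+ V).ker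
    have : addOrderOf (⟨v, h⟩ : K) = r := by
      refine addOrderOf_eq_prime ?_ fun e => hv (congrArg Subtype.val e)
      exact Subtype.ext (by simpa using h)
    have h2 : addOrderOf (⟨v, h⟩ : K) ∣ Nat.card K := addOrderOf_dvd_natCard _
    rw [this] at h2
    exact h2
  letI : MulAction (Subgroup.zpowers D.ζ) {x : V // r • x = 0} :=
    { smul := fun g x => ⟨(g : A) • (x : V), (map_nsmul (DistribSMul.toAddMonoidHom V (g : A)) r (x : V)).symm.trans
        (by rw [x.2, map_zero])⟩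
      one_smul := fun x => Subtype.ext (one_smul A (x : V))
      mul_smul := fun a b x => Subtype.ext (mul_smul (a : A) b (x : V)) }
  have hP : IsPGroup r (Subgroup.zpowers D.ζ) :=
    IsPGroup.of_card (n := 1) (by rw [Nat.card_zpowers, D.order, pow_one])
  obtain ⟨x, hx, hx0⟩ := hP.exists_fixed_point_of_prime_dvd_card_of_fixed_point
    {x : V // r • x = 0} hdvd (a := ⟨0, nsmul_zero r⟩)
    (fun g => Subtype.ext (smul_zero (g : A)))
  have hfix : D.ζ • (x : V) = x := congrArg Subtype.val (hx ⟨D.ζ, Subgroup.mem_zpowers _⟩)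
  exact hx0 (Subtype.ext (F.eq_zero_of_smul_eq D.zmem (fun e => hr.ne_one (by
    rw [← D.order, e, orderOf_one])) hfix).symm)

theorem pow_smul_eq_zero : ∀ (n : ℕ) {v : V}, r ^ n • v = 0 → v = 0
  | 0, v, h => by simpa using h
  | n + 1, v, h => pow_smul_eq_zero n (D.card_smul_eq_zero F (by rwa [← mul_nsmul, ← pow_succ]))

theorem char_sum {b : Fin (d + 1) → ZMod r} (v : V) :
    ∑ a : Fin (d + 1) → ZMod r, D.sc (dot b a) • v =
      if b = 0 then (r ^ (d + 1)) • v else 0 := by
  classical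
  split_ifs with hb
  · subst hb
    simp [dot, sc, zp_zero, ZMod.card]
  obtain ⟨k, hk⟩ : ∃ k, b k ≠ 0 := by
    by_contra hno
    push Not at hno
    exact hb (funext hno)
  refine F.eq_zero_of_smul_eq (D.sc_mem (b k)) (fun e => hk (D.sc_inj (e.trans (zp_zero _).symm))) ?_
  rw [Finset.smul_sum]
  conv_rhs => rw [← Equiv.sum_comp (Equiv.addLeft (Pi.single k 1 : Fin (d + 1) → ZMod r))]
  refine Finset.sum_congr rfl fun a _ => ?_
  rw [Equiv.coe_addLeft, dot_add_right, dot_single, D.sc_smul_add]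

/-- the projection onto one eigenspace, up to a factor -/
theorem proj_Y {w : V} (hw : w ∈ D.W V) (a a' : Fin (d + 1) → ZMod r) :
    ∑ b : Fin (d + 1) → ZMod r, D.sc (-dot b a) • D.X b • D.Y a' • w =
      if a' = a then (r ^ (d + 1)) • D.Y a' • w else 0 := by
  classical
  have h : ∀ b : Fin (d + 1) → ZMod r, D.sc (-dot b a) • D.X b • D.Y a' • w =
      D.sc (dot (a' - a) b) • D.Y a' • w := fun b => by
    rw [D.smul_W hw, ← D.sc_smul_add, dot_comm b a, dot_comm b a']
    congr 2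
    simp [dot, sub_mul, Finset.sum_sub_distrib]
    ring
  rw [Finset.sum_congr rfl fun b _ => h b, D.char_sum F]
  simp [sub_eq_zero]

theorem uniq {w w' : (Fin (d + 1) → ZMod r) → V} (hw : ∀ a, w a ∈ D.W V) (hw' : ∀ a, w' a ∈ D.W V)
    (h : ∑ a, D.Y a • w a = ∑ a, D.Y a • w' a) (a : Fin (d + 1) → ZMod r) : w a = w' a := by
  classical
  have key : ∀ w : (Fin (d + 1) → ZMod r) → V, (∀ a, w a ∈ D.W V) →
      ∑ b : Fin (d + 1) → ZMod r, D.sc (-dot b a) • D.X b • (∑ a', D.Y a' • w a') =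
        (r ^ (d + 1)) • D.Y a • w a := by
    intro w hw
    simp only [Finset.smul_sum]
    rw [Finset.sum_comm, Finset.sum_congr rfl fun a' _ => D.proj_Y F (hw a') a a']
    simp
  have e := key w hw
  rw [h, key w' hw'] at e
  have e' := D.pow_smul_eq_zero F (d + 1) (v := D.Y a • w a - D.Y a • w' a) (by
    rw [smul_sub, e, sub_self])
  rw [← smul_sub, smul_eq_zero_iff_eq, sub_eq_zero] at e'
  exact e'

theorem exists_decomp (v : V) : ∃ w : (Fin (d + 1) → ZMod r) → V, (∀ a, w a ∈ D.W V) ∧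
    v = ∑ a, D.Y a • w a := by
  classical
  obtain ⟨v', hv'⟩ : ∃ v', r ^ (d + 1) • v' = v := by
    have hinj : Function.Injective fun x : V => r ^ (d + 1) • x := fun x y h =>
      sub_eq_zero.1 (D.pow_smul_eq_zero F _ (by rw [smul_sub]; exact sub_eq_zero.2 h))
    exact (Finite.injective_iff_surjective.1 hinj) v
  let P : (Fin (d + 1) → ZMod r) → V := fun a => ∑ b, D.sc (-dot b a) • D.X b • v'
  have hP : ∀ a b', D.X b' • P a = D.sc (dot b' a) • P a := by
    intro a b'
    simp only [P, Finset.smul_sum]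
    conv_rhs => rw [← Equiv.sum_comp (Equiv.addLeft b')]
    refine Finset.sum_congr rfl fun b _ => ?_
    rw [Equiv.coe_addLeft, D.addX, mul_smul, ← mul_smul (D.X b'), D.sc_comm _ (D.memX b'), mul_smul,
      ← D.sc_smul_add]
    congr 2
    rw [dot_add]; ring
  refine ⟨fun a => D.Y (-a) • P a, fun a b => ?_, ?_⟩
  · rw [D.smul_rel, hP, ← mul_smul (D.Y (-a)), D.sc_comm _ (D.memY _), mul_smul, ← D.sc_smul_add,
      ← dot_add_right, neg_add_cancel, dot_zero, show D.sc (0 : ZMod r) = 1 from zp_zero _, one_smul]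
  · have : ∀ a, D.Y a • D.Y (-a) • P a = P a := fun a => by
      rw [← mul_smul, ← D.addY, add_neg_cancel, D.Y_zero, one_smul]
    simp only [this, P]
    rw [Finset.sum_comm]
    have h2 : ∀ b : Fin (d + 1) → ZMod r, ∑ a, D.sc (-dot b a) • D.X b • v' =
        if -b = 0 then (r ^ (d + 1)) • D.X b • v' else 0 := fun b => by
      rw [← D.char_sum F (b := -b) (D.X b • v')]
      exact Finset.sum_congr rfl fun a _ => by congr 2; simp [dot]
    rw [Finset.sum_congr rfl fun b _ => h2 b]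
    simp only [neg_eq_zero, Finset.sum_ite_eq', Finset.mem_univ, if_true]
    rw [D.X_zero, one_smul, hv']

theorem block_zero {a : Fin (d + 1) → ZMod r} {u u' : V} (hu : u ∈ D.W V) (hu' : u' ∈ D.W V) (h0 : u ≠ 0)
    (h : D.Y a • u = u') : a = 0 := by
  classical
  by_contra ha
  have e : ∀ (c : Fin (d + 1) → ZMod r) (x : V), ∑ b, D.Y b • (Pi.single c x : _ → V) b = D.Y c • x := fun c x => by
    rw [Finset.sum_eq_single c (fun b _ hb => by rw [Pi.single_eq_of_ne hb, smul_zero])
      (fun h => absurd (Finset.mem_univ _) h), Pi.single_eq_same]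
  have hmem : ∀ (c : Fin (d + 1) → ZMod r) (x : V), x ∈ D.W V → ∀ b, (Pi.single c x : _ → V) b ∈ D.W V :=
    fun c x hx b => by
      by_cases hb : b = c
      · subst hb; rw [Pi.single_eq_same]; exact hx
      · rw [Pi.single_eq_of_ne hb]; exact zero_mem _
  have := D.uniq F (hmem a u hu) (hmem 0 u' hu') (by rw [e, e, D.Y_zero, one_smul, h]) a
  rw [Pi.single_eq_same, Pi.single_eq_of_ne ha] at this
  exact h0 this

omit F in
theorem norm_unique {c c' : ZMod r} {b b' a a' : Fin (d + 1) → ZMod r}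
    (h : D.sc c * (D.X b * D.Y a) = D.sc c' * (D.X b' * D.Y a')) : c = c' ∧ b = b' ∧ a = a' := by
  have cx : ∀ (c : ZMod r) (b a β : Fin (d + 1) → ZMod r),
      D.X β * (D.sc c * (D.X b * D.Y a)) = D.sc (dot β a) * ((D.sc c * (D.X b * D.Y a)) * D.X β) := by
    intro c b a β
    rw [← mul_assoc, D.sc_comm c (D.memX β), mul_assoc, ← mul_assoc (D.X β), ← D.addX, add_comm β b, D.addX,
      mul_assoc (D.X b), D.rel, ← mul_assoc (D.X b) (zp _ _), D.sc_comm _ (D.memX b)]
    rw [← mul_assoc (D.sc (dot β a)) (D.sc c * _), ← mul_assoc (D.sc (dot β a)) (D.sc c), ← D.sc_add,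
      add_comm (dot β a), D.sc_add]
    simp only [mul_assoc]
  have cy : ∀ (c : ZMod r) (b a α : Fin (d + 1) → ZMod r),
      D.sc c * (D.X b * D.Y a) * D.Y α = D.sc (dot b α) * (D.Y α * (D.sc c * (D.X b * D.Y a))) := by
    intro c b a α
    rw [← mul_assoc (D.Y α), D.sc_comm c (D.memY α), mul_assoc (D.sc c) (D.X b * D.Y a),
      mul_assoc (D.X b), ← D.addY, add_comm a α, D.addY, ← mul_assoc (D.X b), D.rel]
    rw [← mul_assoc (D.sc c), ← mul_assoc (D.sc c) (zp _ _), ← D.sc_add, add_comm c, D.sc_add]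
    simp only [mul_assoc]
  have ea : a = a' := by
    refine eq_of_dot fun β => ?_
    have h1 := cx c b a β
    rw [h, cx c' b' a' β] at h1
    rw [dot_comm a, dot_comm a']
    exact (D.sc_inj (mul_right_cancel h1)).symm
  have eb : b = b' := by
    refine eq_of_dot fun α => ?_
    have h1 := cy c b a α
    rw [h, cy c' b' a' α] at h1
    exact (D.sc_inj (mul_right_cancel h1)).symm
  subst ea eb
  exact ⟨D.sc_inj (mul_right_cancel h), rfl, rfl⟩

end SympData

theorem base_of_field (hA : Odd (Nat.card A)) {N : ℕ} (hcard : Nat.card A ≤ N) (hL : LinHyp.{u} (N - 1))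
    (hirr : Irr A V) {U : Subgroup A} (F : FieldCase A V U) {r d : ℕ} (D : SympData A U r d) :
    BaseOn (⊤ : Subgroup A) (⊤ : AddSubgroup V) := by
  classical
  haveI : Fact r.Prime := ⟨D.prime⟩
  haveI := D.normal
  set B := Subgroup.centralizer (D.E : Set A) with hB
  have hBlt : Nat.card B ≤ N - 1 := by
    have hne : B ≠ ⊤ := by
      intro e
      have h : D.X (Pi.single 0 1) * D.Y (Pi.single 0 1) = D.Y (Pi.single 0 1) * D.X (Pi.single 0 1) :=
        (Subgroup.mem_centralizer_iff.1 (show D.Y (Pi.single 0 1) ∈ B by rw [e]; trivial) _ (D.memX _))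
      rw [D.rel, mul_eq_right] at h
      have := D.sc_inj (h.trans (zp_zero D.ζ).symm)
      rw [dot_single, Pi.single_eq_same] at this
      exact one_ne_zero this
    have hlt : Nat.card B < Nat.card A :=
      lt_of_le_of_ne (Subgroup.card_le_card_group B) fun e => hne ((Subgroup.card_eq_iff_eq_top B).1 e)
    omega
  have hBW : Inv B (D.W V) := fun g hg v hv b => by
    rw [← mul_smul, Subgroup.mem_centralizer_iff.1 hg _ (D.memX b), mul_smul, hv b]
  have hWne : D.W V ≠ ⊥ := by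
    intro e
    obtain ⟨v, hv⟩ := F.nt
    obtain ⟨w, hw, rfl⟩ := D.exists_decomp F v
    refine hv (Finset.sum_eq_zero fun a _ => ?_)
    have := hw a
    rw [e, AddSubgroup.mem_bot] at this
    rw [this, smul_zero]
  obtain ⟨u₀, hu₀, w₀, hw₀, -, hu00, hb⟩ :=
    (hL.on hA hBlt hBW ((crOn_normal hirr inferInstance).mono le_top hBW)).ne hWne
  obtain ⟨γ, hγ, hγ0, hγgen⟩ := F.exists_units_generator
  set e₀ : Fin (d + 1) → ZMod r := Pi.single 0 1 with he₀
  let U' : (Fin (d + 1) → ZMod r) → V := fun a => if a = e₀ then γ u₀ else u₀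
  let fam : (Fin (d + 1) → ZMod r) → V := fun a => if a = 0 then w₀ else if a ∈ rigidSet r d then U' a else 0
  have hγu : γ u₀ ≠ 0 := fun h => hγ0 (F.eq_zero_of_apply hγ hu00 h)
  have hU'0 : ∀ a, U' a ≠ 0 := fun a => by simp only [U']; split_ifs <;> assumption
  have hfam : ∀ a, fam a ∈ D.W V := fun a => by
    simp only [fam, U']
    split_ifs <;> first | exact hw₀ | exact hu₀ | exact D.W_scalar hu₀ hγ | exact zero_mem _
  have hr2 := D.ne_two
  have hrig0 := zero_notMem_rigid (r := r) (d := d) hr2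
  refine ⟨u₀, trivial, ∑ a, D.Y a • fam a, trivial, fun g _ hgu hgw v _ => ?_⟩
  -- conjugation on the exponent-`r` part
  have hform : ∀ h : A, ∀ x ∈ D.E, x ^ r = 1 → ∃ c b a, h * x * h⁻¹ = D.sc c * (D.X b * D.Y a) :=
    fun h x hx hxr => D.dec _ (D.normal.conj_mem x hx h) (by rw [conj_pow, hxr, mul_one, mul_inv_cancel])
  have hXfix : ∀ h : A, h • u₀ = u₀ → ∀ b, ∃ b', h * D.X b * h⁻¹ = D.X b' := by
    intro h hh b
    obtain ⟨c, b', a, e⟩ := hform h _ (D.memX b) (D.powX b)
    have h1 : (D.sc c * (D.X b' * D.Y a)) • u₀ = u₀ := by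
      rw [← e, mul_smul, mul_smul, show h⁻¹ • u₀ = u₀ by rw [inv_smul_eq_iff, hh], hu₀ b, hh]
    rw [mul_smul, mul_smul, D.smul_W hu₀, ← D.sc_smul_add] at h1
    have h2 : D.Y a • u₀ = D.sc (-(c + dot b' a)) • u₀ := by
      conv_rhs => rw [← h1]
      rw [← D.sc_smul_add, neg_add_cancel, show D.sc (0 : ZMod r) = 1 from zp_zero _, one_smul]
    have ha := D.block_zero F hu₀ (D.W_sc hu₀ _) hu00 h2
    subst ha
    rw [dot_zero, add_zero, D.Y_zero, one_smul] at h1
    have hc : c = 0 := by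
      by_contra hc
      exact hu00 (F.eq_zero_of_smul_eq (D.sc_mem c) (fun e => hc (D.sc_inj (e.trans (zp_zero _).symm))) h1)
    exact ⟨b', by rw [e, hc, D.Y_zero, mul_one, show D.sc (0 : ZMod r) = 1 from zp_zero _, one_mul]⟩
  have hgW : ∀ h : A, h • u₀ = u₀ → ∀ x ∈ D.W V, h • x ∈ D.W V := by
    intro h hh x hx b
    obtain ⟨b', e⟩ := hXfix h⁻¹ (by rw [inv_smul_eq_iff, hh]) b
    rw [inv_inv] at e
    rw [show D.X b = h * D.X b' * h⁻¹ by rw [← e]; group, ← mul_smul]
    rw [show h * D.X b' * h⁻¹ * h = h * D.X b' by group, mul_smul, hx b']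
  have hgW' := hgW g hgu
  choose c β τ hτ using fun a => hform g (D.Y a) (D.memY a) (D.powY a)
  have hmove : ∀ a, ∀ x ∈ D.W V, g • D.Y a • x = D.sc (c a + dot (β a) (τ a)) • D.Y (τ a) • g • x := by
    intro a x hx
    rw [show g • D.Y a • x = (g * D.Y a * g⁻¹) • g • x by rw [mul_smul, mul_smul, inv_smul_smul], hτ,
      mul_smul, mul_smul, D.smul_W (hgW' x hx), ← D.sc_smul_add]
  have hadd : ∀ a b, c (a + b) = c a + c b - dot (β b) (τ a) ∧ β (a + b) = β a + β b ∧
      τ (a + b) = τ a + τ b := by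
    intro a b
    refine D.norm_unique ?_
    rw [← hτ, D.addY, show g * (D.Y a * D.Y b) * g⁻¹ = (g * D.Y a * g⁻¹) * (g * D.Y b * g⁻¹) by group, hτ, hτ]
    calc D.sc (c a) * (D.X (β a) * D.Y (τ a)) * (D.sc (c b) * (D.X (β b) * D.Y (τ b)))
        = D.sc (c a) * ((D.X (β a) * D.Y (τ a)) * D.sc (c b)) * (D.X (β b) * D.Y (τ b)) := by
          simp only [mul_assoc]
      _ = D.sc (c a + c b) * (D.X (β a) * (D.Y (τ a) * D.X (β b)) * D.Y (τ b)) := by
          rw [D.sc_comm _ (mul_mem (D.memX _) (D.memY _)), D.sc_add]; simp only [mul_assoc]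
      _ = D.sc (c a + c b) * (D.X (β a) * D.sc (-dot (β b) (τ a))) * (D.X (β b) * D.Y (τ a) * D.Y (τ b)) := by
          rw [D.rel']; simp only [mul_assoc]
      _ = D.sc (c a + c b + -dot (β b) (τ a)) * (D.X (β a) * D.X (β b) * (D.Y (τ a) * D.Y (τ b))) := by
          rw [D.sc_comm _ (D.memX _), D.sc_add (c a + c b)]; simp only [mul_assoc]
      _ = _ := by rw [← D.addX, ← D.addY, ← sub_eq_add_neg]
  let τh : (Fin (d + 1) → ZMod r) →+ (Fin (d + 1) → ZMod r) := AddMonoidHom.mk' τ fun a b => (hadd a b).2.2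
  let βh : (Fin (d + 1) → ZMod r) →+ (Fin (d + 1) → ZMod r) := AddMonoidHom.mk' β fun a b => (hadd a b).2.1
  have hginv : g⁻¹ • u₀ = u₀ := by rw [inv_smul_eq_iff, hgu]
  have τinj : Function.Injective τ := by
    refine (injective_iff_map_eq_zero τh).2 fun a ha => ?_
    have h := hmove a u₀ hu₀
    rw [show τ a = 0 from ha, D.Y_zero, one_smul, hgu] at h
    refine D.block_zero F hu₀ (hgW g⁻¹ hginv _ (D.W_sc hu₀ (c a + dot (β a) 0))) hu00 ?_
    rw [← h, inv_smul_smul]
  -- comparison of the components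
  have hcomp : ∀ a, D.sc (c a + dot (β a) (τ a)) • g • fam a = fam (τ a) := by
    intro a
    have hbij : Function.Bijective τ := ⟨τinj, Finite.injective_iff_surjective.1 τinj⟩
    let eτ := Equiv.ofBijective τ hbij
    let G : (Fin (d + 1) → ZMod r) → V := fun a => D.sc (c a + dot (β a) (τ a)) • g • fam a
    have h1 : g • ∑ a, D.Y a • fam a = ∑ a, D.Y a • G (eτ.symm a) := by
      rw [← Equiv.sum_comp eτ fun a => D.Y a • G (eτ.symm a), Finset.smul_sum]
      refine Finset.sum_congr rfl fun a _ => ?_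
      rw [Equiv.symm_apply_apply, hmove a _ (hfam a), show eτ a = τ a from rfl]
      simp only [G, ← mul_smul]
      rw [← mul_assoc (D.Y (τ a)), D.sc_comm _ (D.memY _), mul_assoc]
    rw [hgw] at h1
    have h2 := D.uniq F hfam (fun a => D.W_sc (hgW' _ (hfam _)) _) h1 (τ a)
    rw [show eτ.symm (τ a) = a from eτ.symm_apply_apply a] at h2
    exact h2.symm
  set μ : (Fin (d + 1) → ZMod r) → ZMod r := fun a => c a + dot (β a) (τ a) with hμ
  have hτ0 : τ 0 = 0 := map_zero τh
  have hc0 : c 0 = 0 := by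
    have h := (hadd 0 0).1
    rw [show β 0 = 0 from map_zero βh, add_zero, hτ0] at h
    simp [dot] at h
    exact h
  have hgw₀ : g • w₀ = w₀ := by
    have h := hcomp 0
    rw [hτ0, dot_zero, add_zero, hc0, show D.sc (0 : ZMod r) = 1 from zp_zero _, one_smul] at h
    simpa [fam] using h
  have hT : ∀ a ∈ rigidSet r d, τ a ∈ rigidSet r d := by
    intro a ha
    by_contra hn
    have ha0 : a ≠ 0 := fun e => hrig0 (e ▸ ha)
    have hτa : τ a ≠ 0 := fun e => ha0 (τinj (e.trans hτ0.symm))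
    have h := hcomp a
    simp only [fam, if_neg ha0, if_pos ha, if_neg hτa, if_neg hn] at h
    rw [smul_eq_zero_iff_eq, smul_eq_zero_iff_eq] at h
    exact hU'0 a h
  -- periodicity
  have hscg : ∀ c' : ZMod r, ∃ c'', g * D.sc c' * g⁻¹ = D.sc c'' := fun c' =>
    F.eq_zp D.zmem D.order (F.normal.conj_mem _ (D.sc_mem c') g) (by
      rw [conj_pow, show D.sc c' ^ r = 1 by rw [SympData.sc, zp, ← pow_mul, mul_comm, pow_mul, D.zeta_pow, one_pow],
        mul_one, mul_inv_cancel])
  have hiter : ∀ n : ℕ, ∀ a, ∃ c', g ^ n • D.Y a • u₀ = D.sc c' • D.Y (τ^[n] a) • u₀ := by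
    intro n
    induction n with
    | zero => exact fun a => ⟨0, by simp [SympData.sc, zp_zero]⟩
    | succ n ih =>
      intro a
      obtain ⟨c', hc'⟩ := ih a
      obtain ⟨c'', hc''⟩ := hscg c'
      refine ⟨c'' + μ (τ^[n] a), ?_⟩
      rw [pow_succ', mul_smul, hc', show g • D.sc c' • D.Y (τ^[n] a) • u₀ =
        (g * D.sc c' * g⁻¹) • g • D.Y (τ^[n] a) • u₀ by rw [mul_smul, mul_smul, inv_smul_smul], hc'',
        hmove _ u₀ hu₀, hgu, Function.iterate_succ_apply', ← D.sc_smul_add]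
  have hper : ∀ a, τh^[orderOf g] a = a := by
    intro a
    obtain ⟨c', hc'⟩ := hiter (orderOf g) a
    rw [pow_orderOf_eq_one, one_smul] at hc'
    change τ^[orderOf g] a = a
    have h := congrArg (fun x => D.Y (-(τ^[orderOf g] a)) • x) hc'
    simp only [← mul_smul, ← D.addY] at h
    rw [← mul_assoc, D.sc_comm _ (D.memY _), mul_assoc, ← D.addY, neg_add_cancel, D.Y_zero, mul_one] at h
    have := D.block_zero F hu₀ (D.W_sc hu₀ c') hu00 h
    exact neg_add_eq_zero.1 this
  have hn : Odd (orderOf g) := hA.of_dvd_nat (orderOf_dvd_natCard g)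
  have hid : ∀ a, τ a = a := rigid hr2 τh τinj hn hper hT
  have hμadd : ∀ a b, μ (a + b) = μ a + μ b + dot (β a) b := fun a b => by
    simp only [hμ, hid, (hadd a b).1, (hadd a b).2.1, dot_add, dot_add_right]
    ring
  have hsc1 : ∀ {k : ZMod r} {x : V}, x ≠ 0 → D.sc k • x = x → k = 0 := fun {k x} hx h => by
    by_contra hk
    exact hx (F.eq_zero_of_smul_eq (D.sc_mem k) (fun e => hk (D.sc_inj (e.trans (zp_zero _).symm))) h)
  have hμT : ∀ a ∈ rigidSet r d, a ≠ e₀ → μ a = 0 := by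
    intro a ha hne
    have ha0 : a ≠ 0 := fun e => hrig0 (e ▸ ha)
    have h := hcomp a
    simp only [hid, fam, U', if_neg ha0, if_pos ha, if_neg hne, hgu] at h
    refine hsc1 hu00 ?_
    simp only [hμ, hid]
    exact h
  obtain ⟨hk3, hk0⟩ := rigid_scalar hr2 βh μ hμadd hμT
  have he0T : e₀ ∈ rigidSet r d := Or.inl ⟨0, Or.inl rfl⟩
  have he00 : e₀ ≠ 0 := fun e => hrig0 (e ▸ he0T)
  -- the automorphism of the field
  set k := μ e₀ with hk
  have hσ : conjEnd g γ = endo A V (D.sc (-k)) * γ := by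
    refine sub_eq_zero.1 (F.eq_zero_of_apply (sub_mem (conjEnd_mem_scalars F.normal g hγ)
      (mul_mem (endo_mem_scalars (D.sc_mem _)) hγ)) hu00 ?_)
    show conjEnd g γ u₀ - D.sc (-k) • γ u₀ = 0
    have h := hcomp e₀
    simp only [hid, fam, U', if_neg he00, if_pos he0T, if_true] at h
    rw [conjEnd_apply, hginv, sub_eq_zero]
    conv_rhs => rw [← h]
    rw [← D.sc_smul_add, show -k + (c e₀ + dot (β e₀) e₀) = 0 by simp only [hk, hμ, hid]; ring,
      show D.sc (0 : ZMod r) = 1 from zp_zero _, one_smul]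
  have hk0' : k = 0 := by
    rcases ne_or_eq r 3 with h3 | h3
    · exact hk3 h3
    subst h3
    -- `g` fixes `ζ`
    obtain ⟨j, hj⟩ := hscg 1
    rw [show D.sc (1 : ZMod 3) = D.ζ from zp_one _] at hj
    have hj0 : j ≠ 0 := by
      rintro rfl
      rw [show D.sc (0 : ZMod 3) = 1 from zp_zero _, conj_eq_one_iff] at hj
      have := D.order
      rw [hj, orderOf_one] at this
      omega
    have hg2 : g ^ 2 ∈ Subgroup.centralizer ({D.ζ} : Set A) := by
      rw [Subgroup.mem_centralizer_singleton_iff]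
      have : g ^ 2 * D.ζ * (g ^ 2)⁻¹ = D.ζ := by
        calc g ^ 2 * D.ζ * (g ^ 2)⁻¹ = g * (g * D.ζ * g⁻¹) * g⁻¹ := by rw [sq]; group
          _ = (g * D.ζ * g⁻¹) ^ j.val := by
            conv_lhs => rw [hj]
            rw [conj_pow]; rfl
          _ = D.sc (j * j) := by
            rw [hj, SympData.sc, SympData.sc, zp, zp, ← pow_mul, pow_eq_pow_mod _ D.zeta_pow, ZMod.val_mul]
          _ = D.ζ := by
            rw [sq_one_of_ne j hj0, show D.sc (1 : ZMod 3) = D.ζ from zp_one _]
      exact mul_inv_eq_iff_eq_mul.1 this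
    have hgζ : g * D.ζ * g⁻¹ = D.ζ := by
      rw [Subgroup.mem_centralizer_singleton_iff.1 (eq_of_sq hA _ hg2), mul_inv_cancel_right]
    have hσζ : ∀ c : ZMod 3, conjEnd g (endo A V (D.sc c)) = endo A V (D.sc c) := fun c => by
      show endo A V g * endo A V (D.sc c) * endo A V g⁻¹ = _
      rw [← map_mul, ← map_mul, SympData.sc, zp, ← conj_pow, hgζ]
    by_contra hkne
    -- compare with the successor of the generator
    obtain ⟨m, hm⟩ : ∃ m : ZMod 3, conjEnd g (1 + γ) = endo A V (D.sc m) * (1 + γ) := by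
      rcases eq_or_ne (1 + γ) 0 with h | h
      · exact ⟨0, by rw [h, map_zero, mul_zero]⟩
      obtain ⟨n, hn'⟩ := hγgen _ (add_mem (one_mem _) hγ) h
      refine ⟨(n : ZMod 3) * (-k), ?_⟩
      rw [hn', map_pow, hσ, (show Commute (endo A V (D.sc (-k))) γ from
        scalars_comm F.comm (endo_mem_scalars (D.sc_mem _)) hγ).mul_pow, ← map_pow]
      congr 2
      rw [SympData.sc, SympData.sc, zp, zp, ← pow_mul, pow_eq_pow_mod _ D.zeta_pow]
      congr 1
      rw [ZMod.val_mul, ZMod.val_natCast, Nat.mod_mul_mod, mul_comm]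
    rw [map_add, map_one, hσ, mul_add, mul_one] at hm
    set z := endo A V (D.sc (-k))
    set y := endo A V (D.sc m)
    have h2 : (z - y) * γ = y - 1 := by
      rw [sub_mul]
      linear_combination (norm := abel) hm
    by_cases hzy : z - y = 0
    · rw [hzy, zero_mul] at h2
      have hy1 : D.sc (-k) = D.sc (0 : ZMod 3) := F.endo_inj (by
        rw [show endo A V (D.sc (-k)) = y from sub_eq_zero.1 hzy, show D.sc (0 : ZMod 3) = 1 from zp_zero _,
          map_one]
        exact sub_eq_zero.1 h2.symm)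
      exact hkne (neg_eq_zero.1 (D.sc_inj hy1))
    · have h3 := congrArg (conjEnd (V := V) g) h2
      rw [map_mul, map_sub, map_sub, map_one, hσζ, hσζ, ← h2, hσ] at h3
      obtain ⟨w, -, hw⟩ := F.inv _ (sub_mem (endo_mem_scalars (D.sc_mem _)) (endo_mem_scalars (D.sc_mem _))) hzy
      have hw' : w * (z - y) = 1 := by
        by_contra hne
        haveI : Finite (AddMonoid.End V) := Finite.of_injective (fun f => (f : V → V)) DFunLike.coe_injective
        exact hne (mul_eq_one_comm.1 hw)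
      have h4 : z * γ = γ := by
        have := congrArg (w * ·) h3
        rwa [← mul_assoc w, ← mul_assoc w, hw', one_mul, one_mul] at this
      have hu : D.sc (-k) • γ u₀ = γ u₀ := DFunLike.congr_fun h4 u₀
      exact hkne (neg_eq_zero.1 (hsc1 hγu hu))
  have hμ0 : ∀ a, μ a = 0 ∧ β a = 0 := hk0 hk0'
  have hY : ∀ a, g * D.Y a * g⁻¹ = D.Y a := fun a => by
    obtain ⟨h1, h2⟩ := hμ0 a
    simp only [hμ, hid, h2, show dot (0 : Fin (d + 1) → ZMod r) a = 0 by simp [dot], add_zero] at h1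
    rw [hτ, hid, h1, h2, D.X_zero, one_mul, show D.sc (0 : ZMod r) = 1 from zp_zero _, one_mul]
  -- `g` fixes every scalar
  have hσγ : conjEnd g γ = γ := by
    rw [hσ, hk0', neg_zero, show D.sc (0 : ZMod r) = 1 from zp_zero _, map_one, one_mul]
  have hgU : ∀ x ∈ U, g * x * g⁻¹ = x := fun x hx => by
    refine F.endo_inj (V := V) ?_
    rw [map_mul, map_mul]
    show conjEnd g (endo A V x) = _
    rcases eq_or_ne (endo A V x) 0 with h | h
    · rw [h, map_zero]
    obtain ⟨n, hn'⟩ := hγgen _ (endo_mem_scalars hx) h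
    rw [hn', map_pow, hσγ]
  have hX : ∀ b, g * D.X b * g⁻¹ = D.X b := fun b => by
    obtain ⟨b', hb'⟩ := hXfix g hgu b
    rw [hb']
    congr 1
    refine eq_of_dot fun a => D.sc_inj ?_
    have h1 : g * (D.X b * D.Y a) * g⁻¹ = g * (D.sc (dot b a) * (D.Y a * D.X b)) * g⁻¹ := by rw [D.rel]
    rw [show g * (D.X b * D.Y a) * g⁻¹ = (g * D.X b * g⁻¹) * (g * D.Y a * g⁻¹) by group,
      show g * (D.sc (dot b a) * (D.Y a * D.X b)) * g⁻¹ =
        (g * D.sc (dot b a) * g⁻¹) * ((g * D.Y a * g⁻¹) * (g * D.X b * g⁻¹)) by group,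
      hb', hY, hgU _ (D.sc_mem _), D.rel] at h1
    exact mul_right_cancel h1
  have hgB : g ∈ B := by
    refine Subgroup.mem_centralizer_iff.2 fun x hx => ?_
    obtain ⟨u, hu, c', b, a, rfl⟩ := D.gen x hx
    have : g * (u * (zp D.ζ c' * (D.X b * D.Y a))) * g⁻¹ =
        (g * u * g⁻¹) * ((g * zp D.ζ c' * g⁻¹) * ((g * D.X b * g⁻¹) * (g * D.Y a * g⁻¹))) := by group
    rw [hgU u hu, hgU _ (D.sc_mem c'), hX, hY] at this
    exact (mul_inv_eq_iff_eq_mul.1 this).symm
  obtain ⟨w, hw, rfl⟩ := D.exists_decomp F v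
  rw [Finset.smul_sum]
  refine Finset.sum_congr rfl fun a _ => ?_
  rw [← mul_smul, ← Subgroup.mem_centralizer_iff.1 hgB _ (D.memY a), mul_smul, hb g hgB hgu hgw₀ _ (hw a)]

end CfsgLib.BaseTwo
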