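import Mathlib

/-!
Bases of size two for groups of odd order: definitions and elementary reductions.
-/

set_option autoImplicit false
set_option linter.unusedSectionVars false

namespace CfsgLib.BaseTwo

universe u

variable {A : Type*} [Group A] {V : Type*} [AddCommGroup V] [DistribMulAction A V]

/-- `W` is invariant under the subgroup `H`. -/
def Inv (H : Subgroup A) (W : AddSubgroup V) : Prop := ∀ a ∈ H, ∀ x ∈ W, a • x ∈ W

/-- every `H`-invariant subgroup of `W` has an invariant complement in `W` -/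
def CROn (H : Subgroup A) (W : AddSubgroup V) : Prop :=
  ∀ U ≤ W, Inv H U → ∃ U' ≤ W, Inv H U' ∧ U ⊓ U' = ⊥ ∧ U ⊔ U' = W

/-- two vectors of `W` are only fixed together by elements acting trivially on `W` -/
def BaseOn (H : Subgroup A) (W : AddSubgroup V) : Prop :=
  ∃ v ∈ W, ∃ w ∈ W, ∀ a ∈ H, a • v = v → a • w = w → ∀ x ∈ W, a • x = x

/-- the only invariant subgroups are trivial -/
def Irr (A : Type*) (V : Type*) [Group A] [AddCommGroup V] [DistribMulAction A V] : Prop :=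
  ∀ U : AddSubgroup V, Inv (⊤ : Subgroup A) U → U = ⊥ ∨ U = ⊤

/-- the hypothesis of the induction for linear actions -/
def LinHyp (N : ℕ) : Prop :=
  ∀ (A V : Type u) [Group A] [Finite A] [AddCommGroup V] [Finite V] [DistribMulAction A V],
    Odd (Nat.card A) → Nat.card A ≤ N → CROn (⊤ : Subgroup A) (⊤ : AddSubgroup V) →
      BaseOn (⊤ : Subgroup A) (⊤ : AddSubgroup V)

/-- the hypothesis of the induction for permutation actions -/
def SubHyp (N : ℕ) : Prop :=
  ∀ (A Ω : Type u) [Group A] [Finite A] [Finite Ω] [MulAction A Ω],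
    Odd (Nat.card A) → Nat.card A ≤ N →
      ∃ T : Set Ω, ∀ a : A, (∀ x, a • x ∈ T ↔ x ∈ T) → ∀ x : Ω, a • x = x

theorem eq_of_sq {G : Type*} [Group G] [Finite G] (h : Odd (Nat.card G)) (S : Subgroup G) {a : G}
    (ha : a ^ 2 ∈ S) : a ∈ S := by
  obtain ⟨k, hk⟩ := h
  have h1 : (a ^ 2) ^ (k + 1) = a := by
    rw [← pow_mul, show 2 * (k + 1) = Nat.card G + 1 by omega, pow_succ, pow_card_eq_one', one_mul]
  rw [← h1]
  exact pow_mem ha _

theorem smul_eq_of_sq {G Ω : Type*} [Group G] [Finite G] [MulAction G Ω] (h : Odd (Nat.card G)) {a : G} {x : Ω}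
    (ha : a • a • x = x) : a • x = x :=
  eq_of_sq h (MulAction.stabilizer G x) (a := a)
    (by rw [MulAction.mem_stabilizer_iff, sq, mul_smul, ha])

theorem odd_subgroup {G : Type*} [Group G] [Finite G] (h : Odd (Nat.card G)) (H : Subgroup G) :
    Odd (Nat.card H) :=
  h.of_dvd_nat H.card_subgroup_dvd_card

theorem Inv.smul_iff {H : Subgroup A} {W : AddSubgroup V} (hW : Inv H W) {a : A} (ha : a ∈ H) {x : V} :
    a • x ∈ W ↔ x ∈ W :=
  ⟨fun h => by simpa using hW a⁻¹ (inv_mem ha) _ h, hW a ha x⟩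

/-- complete reducibility passes to invariant subgroups -/
theorem CROn.mono {H : Subgroup A} {W W' : AddSubgroup V} (h : CROn H W) (hle : W' ≤ W) (hW' : Inv H W') :
    CROn H W' := by
  intro U hU hUinv
  obtain ⟨U', -, hU'inv, hinf, hsup⟩ := h U (hU.trans hle) hUinv
  refine ⟨U' ⊓ W', inf_le_right, fun a ha x hx => ⟨hU'inv a ha x hx.1, hW' a ha x hx.2⟩, ?_, ?_⟩
  · rw [eq_bot_iff, ← hinf]
    exact inf_le_inf le_rfl inf_le_left
  · rw [← sup_inf_assoc_of_le U' hU, hsup]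
    exact inf_eq_right.2 hle

/-- the induction hypothesis applied inside a larger group -/
theorem LinHyp.on {A V : Type u} [Group A] [Finite A] [AddCommGroup V] [Finite V] [DistribMulAction A V]
    {N : ℕ} (hL : LinHyp.{u} N) (hA : Odd (Nat.card A)) {H : Subgroup A} (hcard : Nat.card H ≤ N)
    {W : AddSubgroup V} (hW : Inv H W) (hcr : CROn H W) : BaseOn H W := by
  letI : DistribMulAction H W :=
    { smul := fun a x => ⟨(a : A) • (x : V), hW a a.2 x x.2⟩
      one_smul := fun x => Subtype.ext (one_smul A (x : V))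
      mul_smul := fun a b x => Subtype.ext (mul_smul (a : A) b (x : V))
      smul_zero := fun a => Subtype.ext (smul_zero (a : A))
      smul_add := fun a x y => Subtype.ext (smul_add (a : A) (x : V) y) }
  have hcr' : CROn (⊤ : Subgroup H) (⊤ : AddSubgroup W) := by
    intro U _ hU
    obtain ⟨U', hU'W, hU'inv, hinf, hsup⟩ := hcr (U.map W.subtype) (by
      rintro _ ⟨x, -, rfl⟩; exact x.2) (by
      rintro a ha _ ⟨x, hx, rfl⟩
      exact ⟨_, hU ⟨a, ha⟩ trivial x hx, rfl⟩)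
    refine ⟨U'.comap W.subtype, le_top, fun a _ x hx => hU'inv a a.2 (x : V) hx, ?_, ?_⟩
    · refine (AddSubgroup.eq_bot_iff_forall _).2 fun x hx => Subtype.ext ?_
      have h : (x : V) ∈ U.map W.subtype ⊓ U' := ⟨⟨x, hx.1, rfl⟩, hx.2⟩
      rw [hinf, AddSubgroup.mem_bot] at h
      exact h
    · refine eq_top_iff.2 fun x _ => ?_
      have h : (x : V) ∈ U.map W.subtype ⊔ U' := by rw [hsup]; exact x.2
      obtain ⟨_, ⟨y, hy, rfl⟩, z, hz, e⟩ := AddSubgroup.mem_sup.1 h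
      exact AddSubgroup.mem_sup.2 ⟨y, hy, ⟨z, hU'W hz⟩, hz, Subtype.ext e⟩
  obtain ⟨v, -, w, -, h⟩ := hL H W (odd_subgroup hA H) hcard hcr'
  exact ⟨v, v.2, w, w.2, fun a ha hv hw x hx =>
    congrArg Subtype.val (h ⟨a, ha⟩ trivial (Subtype.ext hv) (Subtype.ext hw) ⟨x, hx⟩ trivial)⟩

/-- a base whose two vectors are distinct, the first non-zero -/
theorem BaseOn.ne {H : Subgroup A} {W : AddSubgroup V} (h : BaseOn H W) (hW : W ≠ ⊥) :
    ∃ v ∈ W, ∃ w ∈ W, v ≠ w ∧ v ≠ 0 ∧ ∀ a ∈ H, a • v = v → a • w = w → ∀ x ∈ W, a • x = x := by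
  obtain ⟨v, hv, w, hw, h⟩ := h
  rcases eq_or_ne v w with rfl | hne
  · rcases eq_or_ne v 0 with rfl | hv0
    · obtain ⟨x, hx, hx0⟩ : ∃ x ∈ W, x ≠ 0 := by
        by_contra hno
        push Not at hno
        exact hW ((AddSubgroup.eq_bot_iff_forall _).2 hno)
      exact ⟨x, hx, 0, zero_mem _, hx0, hx0, fun a ha _ _ => h a ha (smul_zero a) (smul_zero a)⟩
    · exact ⟨v, hv, 0, zero_mem _, hv0, hv0, fun a ha h1 _ => h a ha h1 h1⟩
  · rcases eq_or_ne v 0 with rfl | hv0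
    · exact ⟨w, hw, 0, zero_mem _, hne.symm, hne.symm, fun a ha h1 _ => h a ha (smul_zero a) h1⟩
    · exact ⟨v, hv, w, hw, hne, hv0, h⟩

/-- from irreducible pieces to completely reducible actions -/
theorem baseOn_of_irr [Finite V] {H : Subgroup A}
    (hirr : ∀ W : AddSubgroup V, Inv H W →
      (∀ U ≤ W, Inv H U → U = ⊥ ∨ U = W) → BaseOn H W) :
    ∀ W : AddSubgroup V, Inv H W → CROn H W → BaseOn H W := by
  intro W
  induction h : Nat.card W using Nat.strong_induction_on generalizing W with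
  | _ n ih =>
    intro hW hcr
    by_cases hmin : ∀ U ≤ W, Inv H U → U = ⊥ ∨ U = W
    · exact hirr W hW hmin
    push Not at hmin
    obtain ⟨U, hUW, hU, hU0, hUne⟩ := hmin
    obtain ⟨U', hU'W, hU', hinf, hsup⟩ := hcr U hUW hU
    have hlt : ∀ X : AddSubgroup V, X ≤ W → X ≠ W → Nat.card X < n := fun X hX hne =>
      h ▸ Set.ncard_lt_ncard (SetLike.coe_ssubset_coe.2 (lt_of_le_of_ne hX hne)) (Set.toFinite _)
    have hU'ne : U' ≠ W := fun e => hU0 (by
      rw [← hinf, e]; exact (inf_eq_left.2 hUW).symm)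
    obtain ⟨v, hv, w, hw, h1⟩ := ih _ (hlt U hUW hUne) U rfl hU (hcr.mono hUW hU)
    obtain ⟨v', hv', w', hw', h2⟩ := ih _ (hlt U' hU'W hU'ne) U' rfl hU' (hcr.mono hU'W hU')
    refine ⟨v + v', add_mem (hUW hv) (hU'W hv'), w + w', add_mem (hUW hw) (hU'W hw'), fun a ha ea eb x hx => ?_⟩
    have key : ∀ {y y' : V}, y ∈ U → y' ∈ U' → a • (y + y') = y + y' → a • y = y ∧ a • y' = y' := by
      intro y y' hy hy' e
      have h0 : a • y - y ∈ U ⊓ U' := AddSubgroup.mem_inf.2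
        ⟨sub_mem (hU a ha y hy) hy, by
          rw [show a • y - y = y' - a • y' by
            rw [smul_add] at e; linear_combination (norm := abel) e]
          exact sub_mem hy' (hU' a ha y' hy')⟩
      rw [hinf, AddSubgroup.mem_bot, sub_eq_zero] at h0
      rw [smul_add, h0, add_right_inj] at e
      exact ⟨h0, e⟩
    obtain ⟨a1, a1'⟩ := key hv hv' ea
    obtain ⟨a2, a2'⟩ := key hw hw' eb
    rw [← hsup] at hx
    obtain ⟨y, hy, y', hy', rfl⟩ := AddSubgroup.mem_sup.1 hx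
    rw [smul_add, h1 a ha a1 a2 y hy, h2 a ha a1' a2' y' hy']

/-- Clifford: a normal subgroup of an irreducible group is completely reducible -/
theorem crOn_normal [Finite V] (hirr : Irr A V) {B : Subgroup A} (hB : B.Normal) :
    CROn B (⊤ : AddSubgroup V) := by
  classical
  intro U _ hU
  obtain ⟨U', hU', hmax⟩ := Set.Finite.exists_maximal
    (s := {X : AddSubgroup V | Inv B X ∧ U ⊓ X = ⊥}) (Set.toFinite _)
    ⟨⊥, fun a _ x hx => by rw [AddSubgroup.mem_bot] at hx ⊢; rw [hx, smul_zero], inf_bot_eq _⟩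
  obtain ⟨hU'inv, hinf⟩ := hU'
  refine ⟨U', le_top, hU'inv, hinf, ?_⟩
  by_contra hne
  -- a minimal invariant subgroup
  have hV : (⊤ : AddSubgroup V) ≠ ⊥ := fun e => hne (le_antisymm le_top (e ▸ bot_le))
  obtain ⟨W, hW, hWmin⟩ := Set.Finite.exists_minimal
    (s := {X : AddSubgroup V | Inv B X ∧ X ≠ ⊥}) (Set.toFinite _) ⟨⊤, fun _ _ _ _ => trivial, hV⟩
  -- some translate is not inside `U ⊔ U'`
  obtain ⟨a, ha⟩ : ∃ a : A, ∃ x ∈ W, a • x ∉ U ⊔ U' := by
    by_contra hno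
    push Not at hno
    let X : AddSubgroup V := ⨆ a : A, W.map (DistribSMul.toAddMonoidHom V a)
    have hX : Inv (⊤ : Subgroup A) X := by
      intro b _ x hx
      have : X ≤ X.comap (DistribSMul.toAddMonoidHom V b) := iSup_le fun a => by
        rintro _ ⟨y, hy, rfl⟩
        refine AddSubgroup.mem_iSup_of_mem (b * a) ⟨y, hy, ?_⟩
        simp [mul_smul]
      exact this hx
    have hle : X ≤ U ⊔ U' := iSup_le fun a => by
      rintro _ ⟨y, hy, rfl⟩; exact hno a y hy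
    rcases hirr X hX with h | h
    · refine hW.2 ((AddSubgroup.eq_bot_iff_forall _).2 fun x hx => ?_)
      have h' : (1 : A) • x ∈ X := AddSubgroup.mem_iSup_of_mem 1 ⟨x, hx, rfl⟩
      rwa [h, AddSubgroup.mem_bot, one_smul] at h'
    · exact hne (top_le_iff.1 (h ▸ hle))
  obtain ⟨x, hx, hax⟩ := ha
  set W' := W.map (DistribSMul.toAddMonoidHom V a) with hW'
  have hW'inv : Inv B W' := by
    rintro b hb _ ⟨y, hy, rfl⟩
    refine ⟨(a⁻¹ * b * a) • y, hW.1 _ (by simpa using hB.conj_mem b hb a⁻¹) y hy, ?_⟩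
    simp [mul_smul]
  have hUU' : Inv B (U ⊔ U') := by
    intro b hb y hy
    obtain ⟨y₁, h₁, y₂, h₂, rfl⟩ := AddSubgroup.mem_sup.1 hy
    rw [smul_add]
    exact AddSubgroup.mem_sup.2 ⟨_, hU b hb _ h₁, _, hU'inv b hb _ h₂, rfl⟩
  -- the intersection is trivial by minimality
  have hcap : ∀ y ∈ W', y ∈ U ⊔ U' → y = 0 := by
    rintro _ ⟨y, hy, rfl⟩ hys
    by_contra hy0
    let Y : AddSubgroup V := W ⊓ (U ⊔ U').comap (DistribSMul.toAddMonoidHom V a)
    have hY : Inv B Y := fun b hb z hz => ⟨hW.1 b hb z hz.1, by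
      show a • b • z ∈ U ⊔ U'
      have h := hUU' (a * b * a⁻¹) (hB.conj_mem b hb a) (a • z) hz.2
      rwa [mul_smul, mul_smul, inv_smul_smul] at h⟩
    have hY0 : Y ≠ ⊥ := fun e => by
      have : y ∈ Y := ⟨hy, hys⟩
      rw [e, AddSubgroup.mem_bot] at this
      exact hy0 (by simp [this])
    exact hax (hWmin ⟨hY, hY0⟩ inf_le_left hx).2
  refine hax (AddSubgroup.mem_sup_right (hmax (y := U' ⊔ W') ⟨fun b hb z hz => ?_, ?_⟩ le_sup_left
    (AddSubgroup.mem_sup_right (⟨x, hx, rfl⟩ : a • x ∈ W'))))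
  · obtain ⟨z₁, h₁, z₂, h₂, rfl⟩ := AddSubgroup.mem_sup.1 hz
    rw [smul_add]
    exact AddSubgroup.mem_sup.2 ⟨_, hU'inv b hb _ h₁, _, hW'inv b hb _ h₂, rfl⟩
  · refine (AddSubgroup.eq_bot_iff_forall _).2 fun z hz => ?_
    obtain ⟨hzU, hzs⟩ := hz
    obtain ⟨z₁, h₁, z₂, h₂, rfl⟩ := AddSubgroup.mem_sup.1 hzs
    have h20 : z₂ = 0 := hcap z₂ h₂ (by
      rw [show z₂ = (z₁ + z₂) - z₁ by abel]
      exact sub_mem (AddSubgroup.mem_sup_left hzU) (AddSubgroup.mem_sup_right h₁))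
    subst h20
    have : z₁ + 0 ∈ U ⊓ U' := ⟨hzU, by rwa [add_zero]⟩
    rwa [hinf, AddSubgroup.mem_bot] at this

end CfsgLib.BaseTwo
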