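import Cfsg.Agent.Lib.BaseTwo.Basic

/-!
The ring generated by an abelian normal subgroup: either it is a field or the action is imprimitive.
-/

set_option autoImplicit false
set_option linter.unusedSectionVars false

namespace CfsgLib.BaseTwo

universe u

variable {A V : Type u} [Group A] [Finite A] [AddCommGroup V] [Finite V] [DistribMulAction A V]

/-- the endomorphism of an element -/
abbrev endo (A V : Type u) [Group A] [AddCommGroup V] [DistribMulAction A V] : A →* AddMonoid.End V :=
  DistribMulAction.toAddMonoidEnd A V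

/-- conjugation of endomorphisms -/
def conjEnd (a : A) : AddMonoid.End V →+* AddMonoid.End V where
  toFun f := endo A V a * f * endo A V a⁻¹
  map_one' := by rw [mul_one, ← map_mul, mul_inv_cancel, map_one]
  map_mul' f g := by
    rw [show endo A V a * f * endo A V a⁻¹ * (endo A V a * g * endo A V a⁻¹) =
      endo A V a * f * (endo A V a⁻¹ * endo A V a) * g * endo A V a⁻¹ by simp only [mul_assoc],
      ← map_mul, inv_mul_cancel, map_one, mul_one]
    simp only [mul_assoc]
  map_zero' := by rw [mul_zero, zero_mul]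
  map_add' f g := by rw [mul_add, add_mul]

theorem conjEnd_apply (a : A) (f : AddMonoid.End V) (v : V) : conjEnd a f v = a • f (a⁻¹ • v) := rfl

theorem conjEnd_one (f : AddMonoid.End V) : conjEnd (1 : A) f = f := by
  refine DFunLike.ext _ _ fun v => ?_
  rw [conjEnd_apply, inv_one, one_smul, one_smul]

theorem conjEnd_mul (a b : A) (f : AddMonoid.End V) : conjEnd (a * b) f = conjEnd a (conjEnd b f) := by
  refine DFunLike.ext _ _ fun v => ?_
  rw [conjEnd_apply, conjEnd_apply, conjEnd_apply, mul_inv_rev, mul_smul, mul_smul]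

/-- the ring generated by a subgroup -/
def scalars (V : Type u) [AddCommGroup V] [DistribMulAction A V] (U : Subgroup A) : Subring (AddMonoid.End V) :=
  Subring.closure (endo A V '' (U : Set A))

theorem endo_mem_scalars {U : Subgroup A} {u : A} (hu : u ∈ U) : endo A V u ∈ scalars V U :=
  Subring.subset_closure ⟨u, hu, rfl⟩

theorem commute_of_mem_scalars {U : Subgroup A} {f : AddMonoid.End V}
    (h : ∀ u ∈ U, f * endo A V u = endo A V u * f) {s : AddMonoid.End V} (hs : s ∈ scalars V U) :
    f * s = s * f := by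
  have : scalars V U ≤ Subring.centralizer {f} := Subring.closure_le.2 (by
    rintro _ ⟨u, hu, rfl⟩
    rw [SetLike.mem_coe, Subring.mem_centralizer_iff]
    intro g hg
    rw [Set.mem_singleton_iff.1 hg]
    exact h u hu)
  exact Subring.mem_centralizer_iff.1 (this hs) f rfl

theorem scalars_comm {U : Subgroup A} (hU : ∀ x ∈ U, ∀ y ∈ U, x * y = y * x) {s t : AddMonoid.End V}
    (hs : s ∈ scalars V U) (ht : t ∈ scalars V U) : s * t = t * s :=
  commute_of_mem_scalars (fun u hu => (commute_of_mem_scalars (f := endo A V u)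
    (fun u' hu' => by rw [← map_mul, ← map_mul, hU u hu u' hu']) hs).symm) ht

theorem conjEnd_mem_scalars {U : Subgroup A} (hU : U.Normal) (a : A) {s : AddMonoid.End V}
    (hs : s ∈ scalars V U) : conjEnd a s ∈ scalars V U := by
  have : scalars V U ≤ (scalars V U).comap (conjEnd a) := Subring.closure_le.2 (by
    rintro _ ⟨u, hu, rfl⟩
    show conjEnd a (endo A V u) ∈ scalars V U
    rw [show conjEnd a (endo A V u) = endo A V (a * u * a⁻¹) by simp only [map_mul]; rfl]
    exact endo_mem_scalars (hU.conj_mem u hu a))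
  exact this hs

/-- the ring has no nilpotent elements -/
theorem scalars_reduced (hirr : Irr A V) {U : Subgroup A} (hU : U.Normal)
    (hUc : ∀ x ∈ U, ∀ y ∈ U, x * y = y * x) {s : AddMonoid.End V} (hs : s ∈ scalars V U)
    (hnil : IsNilpotent s) : s = 0 := by
  classical
  let Nil := {t : AddMonoid.End V | t ∈ scalars V U ∧ IsNilpotent t}
  let W : AddSubgroup V := ⨅ t ∈ Nil, AddMonoidHom.ker t
  have hWmem : ∀ {x : V}, x ∈ W ↔ ∀ t ∈ Nil, t x = 0 := by
    intro x; simp only [W, AddSubgroup.mem_iInf]; exact Iff.rfl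
  have hW : Inv (⊤ : Subgroup A) W := by
    intro a _ x hx
    rw [hWmem] at hx ⊢
    intro t ht
    have h := hx (conjEnd a⁻¹ t) ⟨conjEnd_mem_scalars hU _ ht.1, ht.2.map (conjEnd a⁻¹)⟩
    rw [conjEnd_apply, inv_inv, inv_smul_eq_iff, smul_zero] at h
    exact h
  rcases hirr W hW with h | h
  · -- some non-zero vector is killed by all nilpotents
    have key : ∀ L : Finset (AddMonoid.End V), (∀ t ∈ L, t ∈ Nil) → ∀ v : V, v ≠ 0 →
        ∃ w : V, w ≠ 0 ∧ ∀ t ∈ L, t w = 0 := by
      intro L
      induction L using Finset.induction_on with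
      | empty => exact fun _ v hv => ⟨v, hv, fun t ht => absurd ht (Finset.notMem_empty t)⟩
      | insert t L _ ih =>
        intro hL v hv
        obtain ⟨w, hw, hwL⟩ := ih (fun r hr => hL r (Finset.mem_insert_of_mem hr)) v hv
        obtain ⟨n, hn⟩ := (hL t (Finset.mem_insert_self _ _)).2
        have hex : ∃ k, (t ^ k) w = 0 := ⟨n, by rw [hn]; rfl⟩
        have hk0 : Nat.find hex ≠ 0 := fun e => by
          have := Nat.find_spec hex
          rw [e, pow_zero] at this
          exact hw this
        obtain ⟨k, hk⟩ := Nat.exists_eq_succ_of_ne_zero hk0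
        refine ⟨(t ^ k) w, Nat.find_min hex (by omega), fun r hr => ?_⟩
        rcases Finset.mem_insert.1 hr with rfl | hr
        · show (r * r ^ k) w = 0
          rw [← pow_succ', ← Nat.succ_eq_add_one, ← hk]
          exact Nat.find_spec hex
        · show (r * t ^ k) w = 0
          rw [scalars_comm hUc (hL r (Finset.mem_insert_of_mem hr)).1
            (pow_mem (hL t (Finset.mem_insert_self _ _)).1 k)]
          show (t ^ k) (r w) = 0
          rw [hwL r hr, map_zero]
    by_contra hs0
    obtain ⟨v, hv⟩ : ∃ v, s v ≠ 0 := by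
      by_contra hno
      push Not at hno
      exact hs0 (DFunLike.ext _ _ hno)
    haveI : Finite (AddMonoid.End V) := Finite.of_injective (fun f => (f : V → V)) DFunLike.coe_injective
    obtain ⟨w, hw, hwN⟩ := key (Set.toFinite Nil).toFinset (fun t ht => (Set.Finite.mem_toFinset _).1 ht)
      v (fun e => hv (by rw [e, map_zero]))
    have : w ∈ W := hWmem.2 fun t ht => hwN t ((Set.Finite.mem_toFinset _).2 ht)
    rw [h, AddSubgroup.mem_bot] at this
    exact hw this
  · refine DFunLike.ext _ _ fun x => ?_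
    have hx : x ∈ W := by rw [h]; trivial
    exact hWmem.1 hx s ⟨hs, hnil⟩

/-- a power is idempotent -/
theorem exists_pow_idempotent {M : Type*} [Monoid M] [Finite M] (x : M) :
    ∃ n : ℕ, 0 < n ∧ x ^ n * x ^ n = x ^ n := by
  obtain ⟨i, j, hne, hij⟩ := Finite.exists_ne_map_eq_of_infinite (fun n : ℕ => x ^ n)
  wlog hlt : i < j generalizing i j
  · exact this j i hne.symm hij.symm (by omega)
  obtain ⟨k, rfl⟩ : ∃ k, j = i + k := ⟨j - i, by omega⟩
  have hper : ∀ t m, i ≤ m → x ^ (m + t * k) = x ^ m := by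
    intro t
    induction t with
    | zero => simp
    | succ t ih =>
      intro m hm
      obtain ⟨d, rfl⟩ := Nat.exists_eq_add_of_le hm
      rw [show i + d + (t + 1) * k = (i + k + d) + t * k by ring, ih _ (by omega), pow_add, pow_add x i d,
        ← show x ^ i = x ^ (i + k) from hij]
  refine ⟨(i + 1) * k, Nat.mul_pos (by omega) (by omega), ?_⟩
  rw [← pow_add]
  exact hper (i + 1) _ (le_trans (Nat.le_succ i) (Nat.le_mul_of_pos_right _ (by omega)))

/-- the imprimitive case -/
theorem base_of_idempotent (hA : Odd (Nat.card A)) {N : ℕ} (hcard : Nat.card A ≤ N) (hL : LinHyp.{u} (N - 1))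
    (hG : SubHyp.{u} N) (hirr : Irr A V) {U : Subgroup A} (hU : U.Normal)
    (hUc : ∀ x ∈ U, ∀ y ∈ U, x * y = y * x) {e : AddMonoid.End V} (he : e ∈ scalars V U)
    (hee : e * e = e) (he0 : e ≠ 0) (he1 : e ≠ 1)
    (hprim : ∀ f ∈ scalars V U, f * f = f → f * e = f → f = 0 ∨ f = e) :
    BaseOn (⊤ : Subgroup A) (⊤ : AddSubgroup V) := by
  classical
  haveI : Finite (AddMonoid.End V) := Finite.of_injective (fun f => (f : V → V)) DFunLike.coe_injective
  let Ω := Set.range fun a : A => conjEnd (V := V) a e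
  letI : MulAction A Ω :=
    { smul := fun a i => ⟨conjEnd a i.1, by
        obtain ⟨b, hb⟩ := i.2
        exact ⟨a * b, show conjEnd (a * b) e = _ by rw [conjEnd_mul]; exact congrArg _ hb⟩⟩
      one_smul := fun i => Subtype.ext (conjEnd_one i.1)
      mul_smul := fun a b i => Subtype.ext (conjEnd_mul a b i.1) }
  haveI : Fintype Ω := Fintype.ofFinite Ω
  have hmemS : ∀ i : Ω, (i : AddMonoid.End V) ∈ scalars V U := by
    rintro ⟨_, a, rfl⟩; exact conjEnd_mem_scalars hU a he
  have hidem : ∀ i : Ω, (i : AddMonoid.End V) * i = i := by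
    rintro ⟨_, a, rfl⟩
    show conjEnd a e * conjEnd a e = conjEnd a e
    rw [← map_mul, hee]
  have hpr : ∀ i : Ω, ∀ f ∈ scalars V U, f * f = f → f * i.1 = f → f = 0 ∨ f = i.1 := by
    rintro ⟨_, a, rfl⟩ f hf hff hfe
    have h := hprim (conjEnd a⁻¹ f) (conjEnd_mem_scalars hU _ hf) (by rw [← map_mul, hff]) (by
      have h := congrArg (conjEnd (V := V) a⁻¹) hfe
      rwa [map_mul, ← conjEnd_mul, inv_mul_cancel, conjEnd_one] at h)
    have hb : conjEnd a (conjEnd a⁻¹ f) = f := by rw [← conjEnd_mul, mul_inv_cancel, conjEnd_one]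
    rcases h with h | h
    · left; rw [← hb, h, map_zero]
    · right; show f = conjEnd a e; rw [← hb, h]
  have horth : ∀ i j : Ω, i ≠ j → (i : AddMonoid.End V) * j = 0 := by
    intro i j hij
    have hc := scalars_comm hUc (hmemS i) (hmemS j)
    have hff : (i : AddMonoid.End V) * j * (i.1 * j.1) = i.1 * j.1 := by
      rw [show (i : AddMonoid.End V) * j * (i.1 * j.1) = i.1 * (j.1 * i.1) * j.1 by simp only [mul_assoc],
        ← hc, ← mul_assoc i.1, hidem i, mul_assoc, hidem j]
    have hS := mul_mem (hmemS i) (hmemS j)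
    rcases hpr j _ hS hff (by rw [mul_assoc, hidem j]) with h | h
    · exact h
    rcases hpr i _ hS hff (by rw [mul_assoc, ← hc, ← mul_assoc, hidem i]) with h' | h'
    · exact h'
    exact absurd (Subtype.ext (h'.symm.trans h)) hij
  let i₀ : Ω := ⟨e, 1, conjEnd_one e⟩
  have htr : ∀ i : Ω, ∃ a : A, a • i₀ = i := by
    rintro ⟨_, a, rfl⟩; exact ⟨a, rfl⟩
  choose t ht using htr
  have hsmul : ∀ (a : A) (i : Ω) (x : V), (a • i).1 (a • x) = a • i.1 x := fun a i x => by
    show conjEnd a i.1 (a • x) = _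
    rw [conjEnd_apply, inv_smul_smul]
  -- the sum of the blocks is everything
  have hsum : ∀ x : V, ∑ i : Ω, i.1 x = x := by
    let W : AddSubgroup V :=
      { carrier := {x | ∑ i : Ω, i.1 x = x}
        zero_mem' := by simp
        add_mem' := fun {x y} hx hy => by
          show ∑ i : Ω, i.1 (x + y) = x + y
          simp only [map_add, Finset.sum_add_distrib]
          rw [hx, hy]
        neg_mem' := fun {x} hx => by
          show ∑ i : Ω, i.1 (-x) = -x
          simp only [map_neg, Finset.sum_neg_distrib]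
          rw [hx] }
    have hW : Inv (⊤ : Subgroup A) W := by
      intro a _ x hx
      show ∑ i : Ω, i.1 (a • x) = a • x
      rw [← Equiv.sum_comp (MulAction.toPerm a : Equiv.Perm Ω) fun i => i.1 (a • x)]
      simp only [MulAction.toPerm_apply, hsmul, ← Finset.smul_sum]
      rw [show ∑ i : Ω, i.1 x = x from hx]
    obtain ⟨x, hx⟩ : ∃ x, e x ≠ 0 := by
      by_contra hno
      push Not at hno
      exact he0 (DFunLike.ext _ _ hno)
    have hmem : e x ∈ W := by
      show ∑ i : Ω, i.1 (e x) = e x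
      rw [Finset.sum_eq_single i₀]
      · exact DFunLike.congr_fun hee x
      · exact fun i _ hi => DFunLike.congr_fun (horth i i₀ hi) x
      · exact fun h => absurd (Finset.mem_univ _) h
    rcases hirr W hW with h | h
    · rw [h, AddSubgroup.mem_bot] at hmem; exact absurd hmem hx
    · intro y; exact (show y ∈ W by rw [h]; trivial)
  let H := MulAction.stabilizer A i₀
  have hHlt : Nat.card H ≤ N - 1 := by
    have hne : H ≠ ⊤ := fun hH => he1 (by
      refine DFunLike.ext _ _ fun y => ?_
      have hsing : ∀ i : Ω, i = i₀ := fun i => by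
        rw [← ht i]; exact (show t i ∈ H by rw [hH]; trivial : t i • i₀ = i₀)
      have h := hsum y
      rw [Finset.sum_eq_single i₀ (fun i _ hi => absurd (hsing i) hi)
        (fun h => absurd (Finset.mem_univ _) h)] at h
      exact h)
    have hlt : Nat.card H < Nat.card A :=
      lt_of_le_of_ne (Subgroup.card_le_card_group H) fun e => hne ((Subgroup.card_eq_iff_eq_top H).1 e)
    omega
  let W₀ : AddSubgroup V := AddMonoidHom.range (e : V →+ V)
  have hfixW : ∀ x ∈ W₀, e x = x := by
    rintro _ ⟨y, rfl⟩; exact DFunLike.congr_fun hee y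
  have hW₀ : Inv H W₀ := fun a ha x hx => by
    refine ⟨a • x, ?_⟩
    have h := hsmul a i₀ x
    rw [show a • i₀ = i₀ from ha] at h
    rw [show i₀.1 x = x from hfixW x hx] at h
    exact h
  have hirr₀ : ∀ Y ≤ W₀, Inv H Y → Y = ⊥ ∨ Y = W₀ := by
    intro Y hY hYinv
    let X : AddSubgroup V := ⨆ a : A, Y.map (DistribSMul.toAddMonoidHom V a)
    have hX : Inv (⊤ : Subgroup A) X := by
      intro b _ x hx
      have : X ≤ X.comap (DistribSMul.toAddMonoidHom V b) := iSup_le fun a => by
        rintro _ ⟨y, hy, rfl⟩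
        refine AddSubgroup.mem_iSup_of_mem (b * a) ⟨y, hy, ?_⟩
        simp [mul_smul]
      exact this hx
    rcases hirr X hX with h | h
    · refine Or.inl ((AddSubgroup.eq_bot_iff_forall _).2 fun x hx => ?_)
      have h' : (1 : A) • x ∈ X := AddSubgroup.mem_iSup_of_mem 1 ⟨x, hx, rfl⟩
      rwa [h, AddSubgroup.mem_bot, one_smul] at h'
    · refine Or.inr (le_antisymm hY fun x hx => ?_)
      have hXY : X ≤ Y.comap e := iSup_le fun a => by
        rintro _ ⟨y, hy, rfl⟩
        show e (a • y) ∈ Y
        by_cases ha : a ∈ H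
        · have h' := hYinv a ha y hy
          rw [hfixW _ (hY h')]
          exact h'
        · have h1 : a • y = (a • i₀).1 (a • y) := by
            rw [hsmul]; exact congrArg _ (hfixW y (hY hy)).symm
          rw [h1, show e ((a • i₀).1 (a • y)) = (i₀.1 * (a • i₀).1) (a • y) from rfl,
            horth i₀ (a • i₀) fun hh => ha hh.symm]
          exact zero_mem _
      have h' : e x ∈ Y := hXY (show x ∈ X by rw [h]; trivial)
      rwa [hfixW x hx] at h'
  have hcr : CROn H W₀ := by
    intro Y hY hYinv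
    rcases hirr₀ Y hY hYinv with rfl | rfl
    · exact ⟨W₀, le_rfl, hW₀, bot_inf_eq _, bot_sup_eq _⟩
    · exact ⟨⊥, bot_le, fun a _ x hx => by rw [AddSubgroup.mem_bot] at hx ⊢; rw [hx, smul_zero],
        inf_bot_eq _, sup_bot_eq _⟩
  obtain ⟨x, hx, y, hy, hxy, -, hb⟩ := (hL.on hA hHlt hW₀ hcr).ne (by
    intro h
    refine he0 (DFunLike.ext _ _ fun v => ?_)
    have hv : e v ∈ W₀ := ⟨v, rfl⟩
    rwa [h, AddSubgroup.mem_bot] at hv)
  obtain ⟨T, hT⟩ := hG A Ω hA hcard
  let c₁ : Ω → V := fun i => if i ∈ T then x else y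
  let c₂ : Ω → V := fun i => if i ∈ T then y else x
  refine ⟨∑ i, t i • c₁ i, trivial, ∑ i, t i • c₂ i, trivial, fun a _ h1 h2 v _ => ?_⟩
  have hcomp : ∀ (c : Ω → V), (∀ i, c i ∈ W₀) → ∀ i, i.1 (∑ j, t j • c j) = t i • c i := by
    intro c hc i
    have hj : ∀ j, t j • c j = j.1 (t j • c j) := fun j => by
      have h := hsmul (t j) i₀ (c j)
      rw [ht j, show i₀.1 (c j) = c j from hfixW _ (hc j)] at h
      exact h.symm
    rw [map_sum, Finset.sum_eq_single i]
    · exact (hj i).symm
    · intro j _ hne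
      rw [hj j]
      exact DFunLike.congr_fun (horth i j hne.symm) _
    · exact fun h => absurd (Finset.mem_univ _) h
  have hmem : ∀ i, (t (a • i))⁻¹ * a * t i ∈ H := fun i => by
    rw [MulAction.mem_stabilizer_iff, mul_smul, mul_smul, ht, inv_smul_eq_iff, ht]
  have hmove : ∀ (c : Ω → V), (∀ i, c i ∈ W₀) → a • (∑ j, t j • c j) = ∑ j, t j • c j →
      ∀ i, ((t (a • i))⁻¹ * a * t i) • c i = c (a • i) := by
    intro c hc h i
    have h' := hsmul a i (∑ j, t j • c j)
    rw [h, hcomp c hc, hcomp c hc] at h'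
    rw [mul_smul, mul_smul, inv_smul_eq_iff]
    exact h'.symm
  have hc₁ : ∀ i, c₁ i ∈ W₀ := fun i => by simp only [c₁]; split_ifs <;> assumption
  have hc₂ : ∀ i, c₂ i ∈ W₀ := fun i => by simp only [c₂]; split_ifs <;> assumption
  have m1 := hmove c₁ hc₁ h1
  have m2 := hmove c₂ hc₂ h2
  have hlab : ∀ i, a • i ∈ T ↔ i ∈ T := by
    intro i
    by_contra hd
    have e1 := m1 i
    have e2 := m2 i
    have hswap : ((t (a • i))⁻¹ * a * t i) • x = y ∧ ((t (a • i))⁻¹ * a * t i) • y = x := by
      by_cases hi : i ∈ T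
      · have hai : a • i ∉ T := fun h => hd (iff_of_true h hi)
        simp only [c₁, c₂, if_pos hi, if_neg hai] at e1 e2
        exact ⟨e1, e2⟩
      · have hai : a • i ∈ T := by by_contra h; exact hd (iff_of_false h hi)
        simp only [c₁, c₂, if_neg hi, if_pos hai] at e1 e2
        exact ⟨e2, e1⟩
    have := smul_eq_of_sq hA (a := (t (a • i))⁻¹ * a * t i) (x := x) (by rw [hswap.1, hswap.2])
    exact hxy (this.symm.trans hswap.1)
  have hfix := hT a hlab
  rw [← hsum v, Finset.smul_sum]
  refine Finset.sum_congr rfl fun i _ => ?_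
  have hiv : i.1 v = t i • e ((t i)⁻¹ • v) := by
    conv_lhs => rw [← ht i]
    show conjEnd (t i) e v = _
    rw [conjEnd_apply]
  rw [hiv]
  have h0 : ((t (a • i))⁻¹ * a * t i) • e ((t i)⁻¹ • v) = e ((t i)⁻¹ • v) := by
    refine hb _ (hmem i) ?_ ?_ _ ⟨_, rfl⟩
    · have e1 := m1 i
      have e2 := m2 i
      rw [hfix] at e1 e2
      by_cases hi : i ∈ T
      · simp only [c₁, if_pos hi] at e1; rw [hfix]; exact e1
      · simp only [c₂, if_neg hi] at e2; rw [hfix]; exact e2
    · have e1 := m1 i
      have e2 := m2 i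
      rw [hfix] at e1 e2
      by_cases hi : i ∈ T
      · simp only [c₂, if_pos hi] at e2; rw [hfix]; exact e2
      · simp only [c₁, if_neg hi] at e1; rw [hfix]; exact e1
  rw [hfix, mul_smul, mul_smul, inv_smul_eq_iff] at h0
  exact h0

/-- either an idempotent splits the action or the ring is a field -/
theorem scalars_cases (hA : Odd (Nat.card A)) {N : ℕ} (hcard : Nat.card A ≤ N) (hL : LinHyp.{u} (N - 1))
    (hG : SubHyp.{u} N) (hirr : Irr A V) {U : Subgroup A} (hU : U.Normal)
    (hUc : ∀ x ∈ U, ∀ y ∈ U, x * y = y * x) :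
    BaseOn (⊤ : Subgroup A) (⊤ : AddSubgroup V) ∨
      ∀ s ∈ scalars V U, s ≠ 0 → ∃ s' ∈ scalars V U, s * s' = 1 := by
  classical
  haveI : Finite (AddMonoid.End V) := Finite.of_injective (fun f => (f : V → V)) DFunLike.coe_injective
  by_cases htriv : ∀ e ∈ scalars V U, e * e = e → e = 0 ∨ e = 1
  · refine Or.inr fun s hs hs0 => ?_
    obtain ⟨n, hn, hidem⟩ := exists_pow_idempotent s
    rcases htriv _ (pow_mem hs n) hidem with h | h
    · exact absurd (scalars_reduced hirr hU hUc hs ⟨n, h⟩) hs0
    · refine ⟨s ^ (n - 1), pow_mem hs _, ?_⟩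
      rw [← pow_succ', show n - 1 + 1 = n by omega, h]
  refine Or.inl ?_
  push Not at htriv
  obtain ⟨f, hf, hff, hf0, hf1⟩ := htriv
  obtain ⟨e, he, hmin⟩ := Set.exists_min_image
    {e : AddMonoid.End V | e ∈ scalars V U ∧ e * e = e ∧ e ≠ 0}
    (fun e : AddMonoid.End V => Nat.card (AddMonoidHom.range (e : V →+ V))) (Set.toFinite _) ⟨f, hf, hff, hf0⟩
  obtain ⟨heS, hee, he0⟩ := he
  refine base_of_idempotent hA hcard hL hG hirr hU hUc heS hee he0 (fun h1 => ?_) fun g hg hgg hge => ?_
  · -- otherwise `f` would be everything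
    have h := hmin f ⟨hf, hff, hf0⟩
    refine hf1 (DFunLike.ext _ _ fun v => ?_)
    have htop : AddMonoidHom.range (f : V →+ V) = ⊤ := by
      refine AddSubgroup.eq_top_of_card_eq _ (le_antisymm (Nat.card_le_card_of_injective _ Subtype.val_injective) ?_)
      refine le_trans (le_of_eq ?_) h
      rw [h1]
      exact Nat.card_congr
        { toFun := fun x => ⟨x, x, rfl⟩, invFun := Subtype.val, left_inv := fun x => rfl, right_inv := fun x => rfl }
    obtain ⟨w, rfl⟩ : v ∈ AddMonoidHom.range (f : V →+ V) := by rw [htop]; trivial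
    exact DFunLike.congr_fun hff w
  · by_contra hno
    push Not at hno
    have hle : AddMonoidHom.range (g : V →+ V) ≤ AddMonoidHom.range (e : V →+ V) := by
      rintro _ ⟨v, rfl⟩
      exact ⟨g v, DFunLike.congr_fun ((scalars_comm hUc heS hg).trans hge) v⟩
    have heq : AddMonoidHom.range (g : V →+ V) = AddMonoidHom.range (e : V →+ V) :=
      AddSubgroup.eq_of_le_of_card_ge hle (hmin g ⟨hg, hgg, hno.1⟩)
    refine hno.2 (DFunLike.ext _ _ fun v => ?_)
    obtain ⟨w, hw⟩ : e v ∈ AddMonoidHom.range (g : V →+ V) := by rw [heq]; exact ⟨v, rfl⟩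
    have h : g (e v) = e v := by rw [← hw]; exact DFunLike.congr_fun hgg w
    rw [show g (e v) = (g * e) v from rfl, hge] at h
    exact h

end CfsgLib.BaseTwo
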