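import Mathlib

/-!
Coordinates in groups of exponent `r` with commutators in a central subgroup of order `r`, and a rigid set of
coordinate vectors.
-/

set_option autoImplicit false
set_option linter.unusedSectionVars false

namespace CfsgLib.BaseTwo

variable {G : Type*} [Group G] {r : ℕ}

/-- power with exponent modulo `r` -/
def zp (g : G) (c : ZMod r) : G := g ^ c.val

theorem zp_natCast [NeZero r] {g : G} (hg : g ^ r = 1) (n : ℕ) : zp g (n : ZMod r) = g ^ n := by
  rw [zp, ZMod.val_natCast, ← pow_eq_pow_mod n hg]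

theorem zp_add [NeZero r] {g : G} (hg : g ^ r = 1) (a b : ZMod r) : zp g (a + b) = zp g a * zp g b := by
  rw [zp, zp, zp, ← pow_add, ZMod.val_add, ← pow_eq_pow_mod _ hg]

theorem zp_zero [NeZero r] (g : G) : zp g (0 : ZMod r) = 1 := by rw [zp, ZMod.val_zero, pow_zero]

theorem zp_one [Fact r.Prime] (g : G) : zp g (1 : ZMod r) = g := by
  rw [zp, ZMod.val_one, pow_one]

theorem zp_mem {H : Subgroup G} {g : G} (hg : g ∈ H) (c : ZMod r) : zp g c ∈ H := pow_mem hg _

theorem zp_inj [NeZero r] {g : G} (hg : orderOf g = r) {a b : ZMod r} (h : zp g a = zp g b) : a = b := by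
  refine ZMod.val_injective r ?_
  exact pow_injOn_Iio_orderOf (Set.mem_Iio.2 (hg ▸ ZMod.val_lt a)) (Set.mem_Iio.2 (hg ▸ ZMod.val_lt b)) h

theorem commute_zp {g h : G} (hc : g * h = h * g) (a b : ZMod r) : zp g a * zp h b = zp h b * zp g a :=
  (Commute.pow_pow hc _ _).eq

/-- commutation of powers -/
theorem pow_mul_pow_of_rel {x y z : G} (h : x * y = z * (y * x)) (hx : x * z = z * x) (hy : y * z = z * y)
    (m n : ℕ) : x ^ m * y ^ n = z ^ (m * n) * (y ^ n * x ^ m) := by
  have h1 : ∀ n, x * y ^ n = z ^ n * (y ^ n * x) := by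
    intro n
    induction n with
    | zero => simp
    | succ n ih =>
      have hyz : Commute (y ^ n) z := (Commute.pow_left hy n)
      calc x * y ^ (n + 1) = (x * y ^ n) * y := by rw [pow_succ, mul_assoc]
        _ = z ^ n * (y ^ n * (x * y)) := by rw [ih]; simp only [mul_assoc]
        _ = z ^ n * (y ^ n * z * (y * x)) := by rw [h]; simp only [mul_assoc]
        _ = _ := by rw [hyz.eq]; simp only [pow_succ, mul_assoc]
  induction m with
  | zero => simp
  | succ m ih =>
    have hxz : Commute (x ^ m) (z ^ n) := Commute.pow_pow hx m n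
    calc x ^ (m + 1) * y ^ n = x ^ m * (x * y ^ n) := by rw [pow_succ, mul_assoc]
      _ = (x ^ m * z ^ n) * (y ^ n * x) := by rw [h1]; simp only [mul_assoc]
      _ = z ^ n * (x ^ m * y ^ n * x) := by rw [hxz.eq]; simp only [mul_assoc]
      _ = z ^ n * (z ^ (m * n) * (y ^ n * x ^ m) * x) := by rw [ih]
      _ = _ := by
        rw [show (m + 1) * n = n + m * n by ring, pow_add, pow_succ]
        simp only [mul_assoc]

theorem zp_mul_zp_of_rel [NeZero r] {x y z : G} (hz : z ^ r = 1) {k : ZMod r}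
    (h : x * y = zp z k * (y * x)) (hx : x * z = z * x) (hy : y * z = z * y) (a b : ZMod r) :
    zp x a * zp y b = zp z (k * a * b) * (zp y b * zp x a) := by
  rw [zp, zp, pow_mul_pow_of_rel h (Commute.pow_right hx _).eq (Commute.pow_right hy _).eq, zp, ← pow_mul]
  congr 1
  rw [zp, pow_eq_pow_mod _ hz]
  congr 1
  rw [← ZMod.val_natCast, Nat.cast_mul, Nat.cast_mul, ZMod.natCast_zmod_val, ZMod.natCast_zmod_val,
    ZMod.natCast_zmod_val, mul_assoc]

/-- the pairing -/
def dot {d : ℕ} (a b : Fin d → ZMod r) : ZMod r := ∑ i, a i * b i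

/-- symplectic coordinates -/
theorem exists_coordinates [Fact r.Prime] [Finite G] {ζ : G} (hζ : orderOf ζ = r) :
    ∀ P : Subgroup G, (∀ g ∈ P, g ^ r = 1) → ζ ∈ P → (∀ g ∈ P, ζ * g = g * ζ) →
      (∀ g ∈ P, ∀ h ∈ P, ∃ k : ZMod r, g * h = zp ζ k * (h * g)) →
      ∃ (d : ℕ) (X Y : (Fin d → ZMod r) → G), (∀ b, X b ∈ P) ∧ (∀ a, Y a ∈ P) ∧
        (∀ b b', X (b + b') = X b * X b') ∧ (∀ a a', Y (a + a') = Y a * Y a') ∧
        (∀ b a, X b * Y a = zp ζ (dot b a) * (Y a * X b)) ∧
        ∀ g ∈ P, ∃ z b a, z ∈ P ∧ (∀ h ∈ P, z * h = h * z) ∧ g = z * (X b * Y a) := by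
  classical
  intro P
  obtain ⟨n, hn⟩ : ∃ n, Nat.card P = n := ⟨_, rfl⟩
  induction n using Nat.strong_induction_on generalizing P with
  | _ n ih =>
    intro hexp hζP hζc hcomm
    have hζr : ζ ^ r = 1 := hexp ζ hζP
    by_cases hab : ∀ g ∈ P, ∀ h ∈ P, g * h = h * g
    · exact ⟨0, fun _ => 1, fun _ => 1, fun _ => one_mem _, fun _ => one_mem _, fun _ _ => (mul_one 1).symm,
        fun _ _ => (mul_one 1).symm, fun _ _ => by simp [dot, zp_zero],
        fun g hg => ⟨g, 0, 0, hg, hab g hg, by simp⟩⟩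
    push Not at hab
    obtain ⟨x, hxP, y₀, hy₀, hne⟩ := hab
    obtain ⟨k, hk⟩ := hcomm x hxP y₀ hy₀
    have hk0 : k ≠ 0 := fun e => hne (by rw [hk, e, zp_zero, one_mul])
    obtain ⟨y, hyP, hxy⟩ : ∃ y ∈ P, x * y = ζ * (y * x) := by
      refine ⟨zp y₀ k⁻¹, zp_mem hy₀ _, ?_⟩
      have h := zp_mul_zp_of_rel hζr hk (hζc x hxP).symm (hζc y₀ hy₀).symm 1 k⁻¹
      rwa [zp_one, mul_one, mul_inv_cancel₀ hk0, zp_one] at h
    have hxy' : x * y = zp ζ (1 : ZMod r) * (y * x) := by rw [zp_one]; exact hxy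
    have cx := hexp x hxP
    have cy := hexp y hyP
    have zc : ∀ (c : ZMod r), ∀ g ∈ P, g * zp ζ c = zp ζ c * g := fun c g hg =>
      (Commute.pow_right (hζc g hg).symm _).eq
    have hrel : ∀ a b : ZMod r, zp x a * zp y b = zp ζ (a * b) * (zp y b * zp x a) := fun a b => by
      have h := zp_mul_zp_of_rel hζr hxy' (hζc x hxP).symm (hζc y hyP).symm a b
      rwa [one_mul] at h
    let P' := P ⊓ Subgroup.centralizer ({x, y} : Set G)
    have hP' : ∀ {g : G}, g ∈ P' ↔ g ∈ P ∧ x * g = g * x ∧ y * g = g * y := by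
      intro g
      show g ∈ P ∧ g ∈ Subgroup.centralizer ({x, y} : Set G) ↔ _
      simp [Subgroup.mem_centralizer_iff]
    have hlt : Nat.card P' < n := by
      rw [← hn]
      refine lt_of_le_of_ne (Subgroup.card_le_of_le inf_le_left) fun e => ?_
      have h : P' = P := Subgroup.eq_of_le_of_card_ge inf_le_left e.ge
      have hx : x ∈ P' := by rw [h]; exact hxP
      have h' := (hP'.1 hx).2.2
      rw [h'] at hxy
      exact (Fact.out : r.Prime).ne_one (by rw [← hζ, mul_eq_right.1 hxy.symm, orderOf_one])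
    obtain ⟨d, X, Y, hX, hY, hXa, hYa, hXY, hdec⟩ := ih _ hlt P' rfl (fun g hg => hexp g hg.1)
      (hP'.2 ⟨hζP, (hζc x hxP).symm, (hζc y hyP).symm⟩) (fun g hg => hζc g hg.1)
      (fun g hg h hh => hcomm g hg.1 h hh.1)
    have hpc : ∀ {g : G}, g ∈ P' → ∀ c : ZMod r, g * zp x c = zp x c * g ∧ g * zp y c = zp y c * g :=
      fun {g} hg c => ⟨(Commute.pow_right (hP'.1 hg).2.1.symm _).eq,
        (Commute.pow_right (hP'.1 hg).2.2.symm _).eq⟩
    have hcorr : ∀ {h : G}, h ∈ P → ∀ {i j : ZMod r}, x * h = zp ζ i * (h * x) → y * h = zp ζ j * (h * y) →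
        h * (zp x j * zp y (-i)) ∈ P' := by
      intro h hh i j hi hj
      refine hP'.2 ⟨mul_mem hh (mul_mem (zp_mem hxP _) (zp_mem hyP _)), ?_, ?_⟩
      · have e := hrel 1 (-i)
        rw [zp_one, one_mul] at e
        have hxx : x * zp x j = zp x j * x := (Commute.self_pow x _).eq
        have hc := zc (-i) (h * zp x j) (mul_mem hh (zp_mem hxP _))
        calc x * (h * (zp x j * zp y (-i))) = zp ζ i * h * (x * zp x j) * zp y (-i) := by
              rw [← mul_assoc, hi]; simp only [mul_assoc]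
          _ = zp ζ i * ((h * zp x j) * zp ζ (-i)) * (zp y (-i) * x) := by
              rw [hxx, show zp ζ i * h * (zp x j * x) * zp y (-i) = zp ζ i * (h * zp x j) * (x * zp y (-i)) by
                simp only [mul_assoc], e]
              simp only [mul_assoc]
          _ = zp ζ i * zp ζ (-i) * (h * zp x j * zp y (-i) * x) := by rw [hc]; simp only [mul_assoc]
          _ = _ := by rw [← zp_add hζr, add_neg_cancel, zp_zero, one_mul]; simp only [mul_assoc]
      · have e : y * zp x j = zp ζ (-j) * (zp x j * y) := by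
          have e := hrel j 1
          rw [zp_one, mul_one] at e
          rw [e, ← mul_assoc, ← zp_add hζr, neg_add_cancel, zp_zero, one_mul]
        have hyy : y * zp y (-i) = zp y (-i) * y := (Commute.self_pow y _).eq
        have hc := zc (-j) h hh
        calc y * (h * (zp x j * zp y (-i))) = zp ζ j * h * (y * zp x j) * zp y (-i) := by
              rw [← mul_assoc, hj]; simp only [mul_assoc]
          _ = zp ζ j * (h * zp ζ (-j)) * (zp x j * (y * zp y (-i))) := by rw [e]; simp only [mul_assoc]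
          _ = zp ζ j * zp ζ (-j) * (h * (zp x j * (zp y (-i) * y))) := by rw [hc, hyy]; simp only [mul_assoc]
          _ = _ := by rw [← zp_add hζr, add_neg_cancel, zp_zero, one_mul]; simp only [mul_assoc]
    refine ⟨d + 1, fun b => X (Fin.tail b) * zp x (b 0), fun a => Y (Fin.tail a) * zp y (a 0),
      fun b => mul_mem (hX _).1 (zp_mem hxP _), fun a => mul_mem (hY _).1 (zp_mem hyP _), fun b b' => ?_,
      fun a a' => ?_, fun b a => ?_, fun g hg => ?_⟩
    · show X (Fin.tail b + Fin.tail b') * zp x (b 0 + b' 0) = _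
      rw [hXa, zp_add cx, mul_assoc (X _), ← mul_assoc (X (Fin.tail b')), (hpc (hX _) _).1]
      simp only [mul_assoc]
    · show Y (Fin.tail a + Fin.tail a') * zp y (a 0 + a' 0) = _
      rw [hYa, zp_add cy, mul_assoc (Y _), ← mul_assoc (Y (Fin.tail a')), (hpc (hY _) _).2]
      simp only [mul_assoc]
    · have hd : dot b a = dot (Fin.tail b) (Fin.tail a) + b 0 * a 0 := by
        rw [dot, Fin.sum_univ_succ, add_comm]; rfl
      show X (Fin.tail b) * zp x (b 0) * (Y (Fin.tail a) * zp y (a 0)) = _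
      rw [hd, zp_add hζr]
      have e1 := (hpc (hY (Fin.tail a)) (b 0)).1
      have e2 := (hpc (hX (Fin.tail b)) (a 0)).2
      calc X (Fin.tail b) * zp x (b 0) * (Y (Fin.tail a) * zp y (a 0))
          = X (Fin.tail b) * Y (Fin.tail a) * (zp x (b 0) * zp y (a 0)) := by
            rw [mul_assoc, ← mul_assoc (zp x _), ← e1]; simp only [mul_assoc]
        _ = zp ζ (dot (Fin.tail b) (Fin.tail a)) * (Y (Fin.tail a) * X (Fin.tail b)) *
              (zp ζ (b 0 * a 0) * (zp y (a 0) * zp x (b 0))) := by rw [hXY, hrel]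
        _ = zp ζ (dot (Fin.tail b) (Fin.tail a)) * zp ζ (b 0 * a 0) *
              (Y (Fin.tail a) * (X (Fin.tail b) * zp y (a 0)) * zp x (b 0)) := by
            rw [mul_assoc (zp ζ (dot _ _)) (Y _ * X _), ← mul_assoc (Y _ * X _) (zp ζ _),
              zc _ _ (mul_mem (hY _).1 (hX _).1)]
            simp only [mul_assoc]
        _ = _ := by rw [e2]; simp only [mul_assoc]
    · obtain ⟨i, hi⟩ := hcomm x hxP g hg
      obtain ⟨j, hj⟩ := hcomm y hyP g hg
      set g' := g * (zp x j * zp y (-i)) with hg'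
      have hg'' : g' ∈ P' := hcorr hg hi hj
      obtain ⟨z, b, a, hz, hzc, hzg⟩ := hdec g' hg''
      have hzP : ∀ h ∈ P', z * h = h * z := hzc
      have hzall : ∀ h ∈ P, z * h = h * z := by
        intro h hh
        obtain ⟨i', hi'⟩ := hcomm x hxP h hh
        obtain ⟨j', hj'⟩ := hcomm y hyP h hh
        clear! g
        -- `h` is a product of an element of `P'` and powers of `x` and `y`
        have hzx : Commute z x := (hP'.1 hz).2.1.symm
        have hzy : Commute z y := (hP'.1 hz).2.2.symm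
        have hh' : h * (zp x j' * zp y (-i')) ∈ P' := hcorr hh hi' hj'
        have hc : Commute z (h * (zp x j' * zp y (-i'))) := hzP _ hh'
        have hw : Commute z (zp x j' * zp y (-i')) := (hzx.pow_right _).mul_right (hzy.pow_right _)
        have := hc.mul_right hw.inv_right
        rwa [mul_inv_cancel_right] at this
      refine ⟨z * zp ζ (-((-j) * i)) * 1, Fin.cons (-j) b, Fin.cons i a, ?_, ?_, ?_⟩
      · rw [mul_one]; exact mul_mem hz.1 (zp_mem hζP _)
      · intro h hh
        rw [mul_one, mul_assoc, ← zc _ h hh, ← mul_assoc, hzall h hh, mul_assoc]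
      · simp only [Fin.tail_cons, Fin.cons_zero]
        have hg0 : g = g' * (zp y i * zp x (-j)) := by
          have e1 : zp y (-i) * zp y i = 1 := by rw [← zp_add cy, neg_add_cancel, zp_zero]
          have e2 : zp x j * zp x (-j) = 1 := by rw [← zp_add cx, add_neg_cancel, zp_zero]
          rw [hg', show g * (zp x j * zp y (-i)) * (zp y i * zp x (-j)) =
            g * (zp x j * (zp y (-i) * zp y i) * zp x (-j)) by simp only [mul_assoc], e1, mul_one, e2, mul_one]
        have hyx : zp y i * zp x (-j) = zp ζ (-((-j) * i)) * (zp x (-j) * zp y i) := by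
          rw [hrel, ← mul_assoc, ← zp_add hζr, neg_add_cancel, zp_zero, one_mul]
        have hc1 := zc (-((-j) * i)) (X b * Y a) (mul_mem (hX b).1 (hY a).1)
        have hc2 := (hpc (hY a) (-j)).1
        rw [hg0, hzg, hyx, mul_one]
        calc z * (X b * Y a) * (zp ζ (-(-j * i)) * (zp x (-j) * zp y i))
            = z * ((X b * Y a) * zp ζ (-(-j * i))) * (zp x (-j) * zp y i) := by simp only [mul_assoc]
          _ = z * zp ζ (-(-j * i)) * (X b * (Y a * zp x (-j)) * zp y i) := by
              rw [hc1]; simp only [mul_assoc]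
          _ = _ := by rw [hc2]; simp only [mul_assoc]

section rigid

variable [Fact r.Prime] {d : ℕ}

/-- the rigid set of vectors -/
def rigidSet (r d : ℕ) : Set (Fin (d + 1) → ZMod r) :=
  {a | (∃ k, a = Pi.single k 1 ∨ a = -Pi.single k 1) ∨
    (∃ i j, i < j ∧ (a = Pi.single i 1 + Pi.single j 1 ∨ a = Pi.single i 1 - Pi.single j 1)) ∨
    a = Pi.single 0 2}

theorem two_ne (hr : r ≠ 2) : (2 : ZMod r) ≠ 0 := fun h =>
  hr ((Nat.prime_dvd_prime_iff_eq Fact.out Nat.prime_two).1
    ((ZMod.natCast_eq_zero_iff 2 r).1 (by exact_mod_cast h)))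

theorem rigid_cases {a : Fin (d + 1) → ZMod r} (ha : a ∈ rigidSet r d) :
    (∃ k, ∀ l, l ≠ k → a l = 0) ∨ ∃ i j, i < j ∧ a i = 1 ∧ a j ≠ 0 ∧ ∀ l, l ≠ i → l ≠ j → a l = 0 := by
  rcases ha with ⟨k, rfl | rfl⟩ | ⟨i, j, hij, rfl | rfl⟩ | rfl
  · exact Or.inl ⟨k, fun l hl => by simp [hl]⟩
  · exact Or.inl ⟨k, fun l hl => by simp [hl]⟩
  · exact Or.inr ⟨i, j, hij, by simp [hij.ne], by simp [hij.ne'],
      fun l h1 h2 => by simp [h1, h2]⟩
  · exact Or.inr ⟨i, j, hij, by simp [hij.ne], by simp [hij.ne'],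
      fun l h1 h2 => by simp [h1, h2]⟩
  · exact Or.inl ⟨0, fun l hl => by simp [hl]⟩

theorem rigid_antipodal (hr : r ≠ 2) {a : Fin (d + 1) → ZMod r} (ha : a ∈ rigidSet r d)
    (ha' : -a ∈ rigidSet r d) : ∃ k, a = Pi.single k 1 ∨ a = -Pi.single k 1 := by
  have hw : (1 : ZMod r) ≠ -1 := fun h => two_ne hr (by linear_combination h)
  rcases ha with h | ⟨i, j, hij, h⟩ | rfl
  · exact h
  · exfalso
    have hi : a i = 1 := by rcases h with rfl | rfl <;> simp [hij.ne]
    have hj : a j ≠ 0 := by rcases h with rfl | rfl <;> simp [hij.ne']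
    have hl : ∀ l, l ≠ i → l ≠ j → a l = 0 := fun l h1 h2 => by rcases h with rfl | rfl <;> simp [h1, h2]
    rcases rigid_cases ha' with ⟨k, hk⟩ | ⟨i', j', hij', hi', hj', hl'⟩
    · by_cases hik : i = k
      · exact hj (neg_eq_zero.1 (hk j (hik ▸ hij.ne')))
      · exact one_ne_zero (hi ▸ neg_eq_zero.1 (hk i hik))
    · by_cases e : i' = i
      · subst e
        exact hw (by rw [Pi.neg_apply, hi] at hi'; exact hi'.symm)
      · have h2 : i' = j := by
          by_contra h2
          rw [Pi.neg_apply, hl i' e h2, neg_zero] at hi'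
          exact zero_ne_one hi'
        have h3 : i ≠ i' := fun e' => e e'.symm
        have h4 : i ≠ j' := fun e' => by omega
        have := hl' i h3 h4
        rw [Pi.neg_apply, neg_eq_zero, hi] at this
        exact one_ne_zero this
  · rcases ha' with ⟨k, h | h⟩ | ⟨i, j, hij, h⟩ | h
    · exact ⟨k, Or.inr (neg_eq_iff_eq_neg.1 h)⟩
    · exact ⟨k, Or.inl (neg_injective h)⟩
    · exfalso
      have hj0 : j ≠ 0 := fun e => by rw [e] at hij; exact absurd hij (Fin.not_lt_zero i)
      have := congrFun (show (-Pi.single 0 2 : Fin (d + 1) → ZMod r) = _ from rfl) j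
      rcases h with h | h <;> have := congrFun h j <;> simp [hj0, hij.ne'] at this
    · exfalso
      have := congrFun h 0
      simp at this
      exact two_ne hr (mul_self_eq_zero.1 (show (2 : ZMod r) * 2 = 0 by linear_combination -this))

theorem addMap_eq_id {τ : (Fin (d + 1) → ZMod r) →+ (Fin (d + 1) → ZMod r)}
    (h : ∀ k, τ (Pi.single k 1) = Pi.single k 1) (a : Fin (d + 1) → ZMod r) : τ a = a := by
  classical
  haveI : NeZero r := ⟨(Fact.out : r.Prime).ne_zero⟩
  have hsingle : ∀ k (c : ZMod r), Pi.single k c = c.val • (Pi.single k 1 : Fin (d + 1) → ZMod r) := fun k c => by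
    funext l
    by_cases hl : l = k
    · subst hl; simp
    · simp [hl]
  rw [← Finset.univ_sum_single a, map_sum]
  exact Finset.sum_congr rfl fun k _ => by rw [hsingle, map_nsmul, h]

/-- the set has no symmetry of odd period -/
theorem rigid (hr : r ≠ 2) (τ : (Fin (d + 1) → ZMod r) →+ (Fin (d + 1) → ZMod r))
    (hinj : Function.Injective τ) {n : ℕ} (hn : Odd n) (hper : ∀ a, τ^[n] a = a)
    (hT : ∀ a, a ∈ rigidSet r d → τ a ∈ rigidSet r d) : ∀ a, τ a = a := by
  classical
  have hk : ∀ k, ∃ l, τ (Pi.single k 1) = Pi.single l 1 ∨ τ (Pi.single k 1) = -Pi.single l 1 := fun k => by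
    refine rigid_antipodal hr (hT _ (Or.inl ⟨k, Or.inl rfl⟩)) ?_
    rw [← map_neg]
    exact hT _ (Or.inl ⟨k, Or.inr rfl⟩)
  choose π hπ using hk
  have hev : ∀ k l, l ≠ π k → τ (Pi.single k 1) l = 0 := fun k l hl => by
    rcases hπ k with h | h <;> simp [h, hl]
  have hne : ∀ k, τ (Pi.single k 1) (π k) ≠ 0 := fun k => by
    rcases hπ k with h | h <;> simp [h]
  have πinj : Function.Injective π := by
    intro k l hkl
    by_contra hne'
    rcases hπ k with h | h <;> rcases hπ l with h' | h' <;> rw [hkl] at h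
    · exact hne' (by have := congrFun (hinj (h.trans h'.symm)) k; simpa [hne'] using this)
    · have e := hinj (h.trans (show Pi.single (π l) 1 = τ (-Pi.single l 1) by rw [map_neg, h', neg_neg]))
      have := congrFun e k; simp [hne'] at this
    · have e := hinj (h.trans (show -Pi.single (π l) 1 = τ (-Pi.single l 1) by rw [map_neg, h']))
      have := congrFun e k; simp [hne'] at this
    · exact hne' (by have := congrFun (hinj (h.trans h'.symm)) k; simpa [hne'] using this)
  have hmono : StrictMono π := by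
    intro i j hij
    rcases lt_trichotomy (π i) (π j) with h | h | h
    · exact h
    · exact absurd (πinj h) hij.ne
    exfalso
    have key : ∀ c : Fin (d + 1) → ZMod r, c ∈ rigidSet r d → c (π i) ≠ 0 → c (π j) ≠ 0 → c (π j) = 1 := by
      intro c hc h1 h2
      rcases rigid_cases hc with ⟨k, hk⟩ | ⟨i', j', hij', hi', -, hl⟩
      · exfalso
        by_cases e : π i = k
        · exact h2 (hk _ (e ▸ h.ne))
        · exact h1 (hk _ e)
      · by_cases e : π j = i'
        · rw [e]; exact hi'
        · exfalso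
          have e2 : π j = j' := by by_contra e2; exact h2 (hl _ e e2)
          have e3 : π i = i' ∨ π i = j' := by by_contra e3; push Not at e3; exact h1 (hl _ e3.1 e3.2)
          rcases e3 with e3 | e3 <;> omega
    have hv : ∀ s : ZMod r, s = 1 ∨ s = -1 → (Pi.single i 1 + Pi.single j s : Fin (d + 1) → ZMod r) ∈
        rigidSet r d := by
      rintro s (rfl | rfl)
      · exact Or.inr (Or.inl ⟨i, j, hij, Or.inl rfl⟩)
      · exact Or.inr (Or.inl ⟨i, j, hij, Or.inr (by rw [Pi.single_neg, sub_eq_add_neg])⟩)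
    have e1 := key _ (hT _ (hv 1 (Or.inl rfl)))
    have e2 := key _ (hT _ (hv (-1) (Or.inr rfl)))
    simp only [map_add, Pi.single_neg, map_neg, Pi.add_apply, Pi.neg_apply,
      hev i _ h.ne, hev j _ h.ne', zero_add, add_zero, neg_zero, neg_ne_zero] at e1 e2
    have a1 := e1 (hne i) (hne j)
    have a2 := e2 (hne i) (hne j)
    rw [a1] at a2
    exact two_ne hr (by linear_combination -a2)
  have hπid : ∀ k, π k = k := fun k => by
    have : π = id := (StrictMono.range_inj hmono strictMono_id).1 (by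
      rw [(Finite.injective_iff_surjective.1 πinj).range_eq, Set.range_id])
    exact congrFun this k
  have h2 : ∀ a, τ (τ a) = a := addMap_eq_id (τ := τ.comp τ) fun k => by
    show τ (τ _) = _
    rcases hπ k with h | h <;> simp [h, hπid]
  intro a
  obtain ⟨m, rfl⟩ := hn
  have : ∀ m, τ^[2 * m + 1] a = τ a := by
    intro m
    induction m with
    | zero => rfl
    | succ m ih =>
      rw [show 2 * (m + 1) + 1 = 2 + (2 * m + 1) by ring, Function.iterate_add_apply, ih]
      exact h2 (τ a)
  rw [← this m]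
  exact hper a

/-- the scalar attached to a symmetry fixing the rigid set -/
theorem rigid_scalar (hr : r ≠ 2) (β : (Fin (d + 1) → ZMod r) →+ (Fin (d + 1) → ZMod r))
    (μ : (Fin (d + 1) → ZMod r) → ZMod r) (hμ : ∀ a b, μ (a + b) = μ a + μ b + dot (β a) b)
    (hT : ∀ a ∈ rigidSet r d, a ≠ Pi.single 0 1 → μ a = 0) :
    (r ≠ 3 → μ (Pi.single 0 1) = 0) ∧ (μ (Pi.single 0 1) = 0 → ∀ a, μ a = 0 ∧ β a = 0) := by
  classical
  haveI : NeZero r := ⟨(Fact.out : r.Prime).ne_zero⟩
  set e : Fin (d + 1) → (Fin (d + 1) → ZMod r) := fun k => Pi.single k 1 with he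
  have hdot : ∀ v k, dot v (e k) = v k := fun v k => by
    simp [dot, he, Pi.single_apply]
  have h0 : μ 0 = 0 := by
    have := hμ 0 0
    simp only [add_zero, map_zero, dot, Pi.zero_apply, zero_mul, Finset.sum_const_zero] at this
    linear_combination -this
  have hneg : ∀ k, μ (-e k) = 0 := fun k => hT _ (Or.inl ⟨k, Or.inr rfl⟩) fun h => by
    have := congrFun h 0
    by_cases hk : k = 0
    · subst hk
      simp [he] at this
      exact two_ne hr (by linear_combination -this)
    · simp [he, Ne.symm hk] at this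
  have hdiag : ∀ k, β (e k) k = μ (e k) := fun k => by
    have := hμ (e k) (-e k)
    rw [add_neg_cancel, h0, hneg, show dot (β (e k)) (-e k) = -dot (β (e k)) (e k) by simp [dot], hdot] at this
    linear_combination this
  refine ⟨fun h3 => ?_, fun hk0 => ?_⟩
  · have h2e : (Pi.single 0 2 : Fin (d + 1) → ZMod r) = e 0 + e 0 := by
      rw [he, ← Pi.single_add, one_add_one_eq_two]
    have hne : (Pi.single 0 2 : Fin (d + 1) → ZMod r) ≠ e 0 := fun h => by
      have := congrFun h 0
      simp [he] at this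
      exact one_ne_zero (show (1 : ZMod r) = 0 by linear_combination this)
    have h := hT _ (Or.inr (Or.inr rfl)) hne
    rw [h2e, hμ, hdot, hdiag] at h
    have h30 : (3 : ZMod r) ≠ 0 := fun h' =>
      h3 ((Nat.prime_dvd_prime_iff_eq Fact.out Nat.prime_three).1
        ((ZMod.natCast_eq_zero_iff 3 r).1 (by exact_mod_cast h')))
    refine (mul_eq_zero.1 (show (3 : ZMod r) * μ (e 0) = 0 by linear_combination h)).resolve_left h30
  have hbasis : ∀ k, μ (e k) = 0 := fun k => by
    by_cases hk : k = 0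
    · rw [hk]; exact hk0
    · refine hT _ (Or.inl ⟨k, Or.inl rfl⟩) fun h => ?_
      have := congrFun h k
      simp [he, hk] at this
  have hβ : ∀ i, β (e i) = 0 := fun i => funext fun j => by
    have hlt : ∀ i j, i < j → β (e i) j = 0 ∧ β (e j) i = 0 := fun i j hij => by
      have hne : e i + e j ≠ e 0 := fun h => by
        have := congrFun h j
        have hj0 : j ≠ 0 := fun e' => by rw [e'] at hij; exact absurd hij (Fin.not_lt_zero i)
        simp [he, hij.ne', hj0] at this
      have h := hT _ (Or.inr (Or.inl ⟨i, j, hij, Or.inl rfl⟩)) hne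
      have h' := h
      rw [hμ, hdot, hbasis, hbasis, zero_add, zero_add] at h
      rw [add_comm, hμ, hdot, hbasis, hbasis, zero_add, zero_add] at h'
      exact ⟨h, h'⟩
    rcases lt_trichotomy i j with h | h | h
    · exact (hlt i j h).1
    · subst h; rw [hdiag, hbasis]; rfl
    · exact (hlt j i h).2
  have hβ0 : ∀ a, β a = 0 := fun a => by
    have h := addMap_eq_id (τ := β + AddMonoidHom.id _) (fun k => by
      rw [AddMonoidHom.add_apply, show β (Pi.single k 1) = 0 from hβ k, zero_add]; rfl) a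
    rwa [AddMonoidHom.add_apply, AddMonoidHom.id_apply, add_eq_right] at h
  intro a
  refine ⟨?_, hβ0 a⟩
  let μ' : (Fin (d + 1) → ZMod r) →+ ZMod r :=
    { toFun := μ, map_zero' := h0, map_add' := fun a b => by rw [hμ, hβ0]; simp [dot] }
  rw [← Finset.univ_sum_single a, show μ _ = μ' _ from rfl, map_sum]
  refine Finset.sum_eq_zero fun k _ => ?_
  rw [show (Pi.single k (a k) : Fin (d + 1) → ZMod r) = (a k).val • e k by
    funext l
    by_cases hl : l = k
    · subst hl; simp [he]
    · simp [he, hl], map_nsmul]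
  show _ • μ (e k) = 0
  rw [hbasis, smul_zero]

end rigid

end CfsgLib.BaseTwo
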