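import Cfsg.Agent.Lib.BaseTwo.Blocks
import Cfsg.Agent.Lib.BaseTwo.Heis

/-!
The symplectic-type subgroup above a maximal abelian normal subgroup acting through a field.
-/

set_option autoImplicit false
set_option linter.unusedSectionVars false

namespace CfsgLib.BaseTwo

universe u

variable {A V : Type u} [Group A] [Finite A] [AddCommGroup V] [Finite V] [DistribMulAction A V]

/-- everything needed about the field of scalars -/
structure FieldCase (A V : Type u) [Group A] [AddCommGroup V] [DistribMulAction A V] (U : Subgroup A) : Prop where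
  nt : ∃ v : V, v ≠ 0
  normal : U.Normal
  comm : ∀ x ∈ U, ∀ y ∈ U, x * y = y * x
  inv : ∀ s ∈ scalars V U, s ≠ 0 → ∃ s' ∈ scalars V U, s * s' = 1
  faithful : ∀ a : A, (∀ v : V, a • v = v) → a = 1

namespace FieldCase

variable {U : Subgroup A} (F : FieldCase A V U)
include F

theorem endo_inj {a b : A} (h : endo A V a = endo A V b) : a = b := by
  have : b⁻¹ * a = 1 := F.faithful _ fun v => by
    rw [mul_smul, show a • v = b • v from DFunLike.congr_fun h v, inv_smul_smul]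
  exact (inv_mul_eq_one.1 this).symm

theorem eq_zero_of_apply {s : AddMonoid.End V} (hs : s ∈ scalars V U) {v : V} (hv : v ≠ 0) (h : s v = 0) :
    s = 0 := by
  by_contra hne
  obtain ⟨s', hs', e⟩ := F.inv s hs hne
  refine hv ?_
  have e' : s' * s = 1 := (scalars_comm F.comm hs' hs).trans e
  rw [show v = (s' * s) v by rw [e']; rfl, show (s' * s) v = s' (s v) from rfl, h, map_zero]

theorem eq_zero_of_smul_eq {u : A} (hu : u ∈ U) (hu1 : u ≠ 1) {v : V} (h : u • v = v) : v = 0 := by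
  by_contra hv
  have h0 := F.eq_zero_of_apply (sub_mem (endo_mem_scalars (V := V) hu) (one_mem _)) hv
    (show u • v - v = 0 by rw [h, sub_self])
  exact hu1 (F.endo_inj (by rw [map_one]; exact sub_eq_zero.1 h0))

theorem isDomain : IsDomain (scalars V U) := by
  obtain ⟨v, hv⟩ := F.nt
  haveI : Nontrivial (scalars V U) := ⟨⟨0, 1, fun e => hv (by
    rw [show v = (1 : AddMonoid.End V) v from rfl, ← show ((0 : scalars V U) : AddMonoid.End V) = 1 from
      congrArg Subtype.val e]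
    rfl)⟩⟩
  haveI : NoZeroDivisors (scalars V U) := ⟨fun {a b} h => by
    rcases eq_or_ne a 0 with ha | ha
    · exact Or.inl ha
    · obtain ⟨a', ha', e⟩ := F.inv a a.2 fun e => ha (Subtype.ext e)
      refine Or.inr (Subtype.ext ?_)
      have e' : a' * (a : AddMonoid.End V) = 1 := (scalars_comm F.comm ha' a.2).trans e
      rw [← one_mul (b : AddMonoid.End V), ← e', mul_assoc,
        show (a : AddMonoid.End V) * b = 0 from congrArg Subtype.val h, mul_zero]
      rfl⟩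
  exact NoZeroDivisors.to_isDomain _

theorem exists_units_generator : ∃ γ ∈ scalars V U, γ ≠ 0 ∧
    ∀ s ∈ scalars V U, s ≠ 0 → ∃ n : ℕ, s = γ ^ n := by
  haveI := F.isDomain
  haveI : Finite (AddMonoid.End V) := Finite.of_injective (fun f => (f : V → V)) DFunLike.coe_injective
  letI : CommRing (scalars V U) :=
    { (inferInstance : Ring (scalars V U)) with
      mul_comm := fun a b => Subtype.ext (scalars_comm F.comm a.2 b.2) }
  haveI : IsCyclic (scalars V U)ˣ := isCyclic_of_subgroup_isDomain (Units.coeHom _) Units.val_injective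
  obtain ⟨g, hg⟩ := IsCyclic.exists_monoid_generator (α := (scalars V U)ˣ)
  refine ⟨((g : scalars V U) : AddMonoid.End V), (g : scalars V U).2,
    fun e => g.ne_zero (Subtype.ext e), fun s hs hs0 => ?_⟩
  obtain ⟨s', hs', e⟩ := F.inv s hs hs0
  let u : (scalars V U)ˣ := ⟨⟨s, hs⟩, ⟨s', hs'⟩, Subtype.ext e,
    Subtype.ext ((scalars_comm F.comm hs' hs).trans e)⟩
  obtain ⟨n, hn⟩ := Submonoid.mem_powers_iff _ _ |>.1 (hg u)
  refine ⟨n, ?_⟩
  have := congrArg (fun w : (scalars V U)ˣ => ((w : scalars V U) : AddMonoid.End V)) hn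
  simpa [u] using this.symm

theorem cyclic : IsCyclic U := by
  haveI := F.isDomain
  letI : CommRing (scalars V U) :=
    { (inferInstance : Ring (scalars V U)) with
      mul_comm := fun a b => Subtype.ext (scalars_comm F.comm a.2 b.2) }
  exact isCyclic_of_subgroup_isDomain
    ({ toFun := fun u => ⟨endo A V u, endo_mem_scalars u.2⟩
       map_one' := Subtype.ext (map_one _)
       map_mul' := fun a b => Subtype.ext (map_mul _ _ _) } : U →* scalars V U)
    fun a b h => Subtype.ext (F.endo_inj (congrArg Subtype.val h))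

theorem eq_zp {r : ℕ} [Fact r.Prime] {ζ : A} (hζU : ζ ∈ U) (hζ : orderOf ζ = r) {z : A} (hz : z ∈ U)
    (hzr : z ^ r = 1) : ∃ c : ZMod r, z = zp ζ c := by
  haveI := F.isDomain
  letI : CommRing (scalars V U) :=
    { (inferInstance : Ring (scalars V U)) with
      mul_comm := fun a b => Subtype.ext (scalars_comm F.comm a.2 b.2) }
  let φ : U →* scalars V U :=
    { toFun := fun u => ⟨endo A V u, endo_mem_scalars u.2⟩
      map_one' := Subtype.ext (map_one _)
      map_mul' := fun a b => Subtype.ext (map_mul _ _ _) }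
  have hφ : Function.Injective φ := fun a b h => Subtype.ext (F.endo_inj (congrArg Subtype.val h))
  have hprim : IsPrimitiveRoot (φ ⟨ζ, hζU⟩) r := by
    have := IsPrimitiveRoot.orderOf (φ ⟨ζ, hζU⟩)
    rwa [orderOf_injective φ hφ, ← Subgroup.orderOf_coe, hζ] at this
  obtain ⟨i, -, hi⟩ := hprim.eq_pow_of_pow_eq_one (ξ := φ ⟨z, hz⟩) (by
    rw [← map_pow, show (⟨z, hz⟩ : U) ^ r = 1 from Subtype.ext hzr, map_one])
  rw [← map_pow] at hi
  have e : z = ζ ^ i := (congrArg Subtype.val (hφ hi)).symm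
  exact ⟨i, by rw [zp_natCast (by rw [← hζ]; exact pow_orderOf_eq_one ζ), e]⟩

end FieldCase

theorem mul_pow_of_rel {G : Type*} [Group G] {x y z : G} (h : y * x = z * (x * y)) (hx : x * z = z * x)
    (hy : y * z = z * y) (n : ℕ) : (x * y) ^ n = z ^ (∑ i ∈ Finset.range n, i) * (x ^ n * y ^ n) := by
  induction n with
  | zero => simp
  | succ n ih =>
    have h1 := pow_mul_pow_of_rel h hy hx n 1
    rw [pow_one, mul_one] at h1
    have hc : Commute (x ^ n) (z ^ n) := Commute.pow_pow hx n n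
    calc (x * y) ^ (n + 1) = z ^ (∑ i ∈ Finset.range n, i) * (x ^ n * (y ^ n * x) * y) := by
          rw [pow_succ, ih]; simp only [mul_assoc]
      _ = z ^ (∑ i ∈ Finset.range n, i) * ((x ^ n * z ^ n) * (x * y ^ n * y)) := by
          rw [h1]; simp only [mul_assoc]
      _ = z ^ (∑ i ∈ Finset.range n, i) * z ^ n * (x ^ n * x * (y ^ n * y)) := by
          rw [hc.eq]; simp only [mul_assoc]
      _ = _ := by rw [Finset.sum_range_succ, pow_add, ← pow_succ, ← pow_succ]

/-- coordinates above a maximal abelian normal subgroup -/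
structure SympData (A : Type u) [Group A] (U : Subgroup A) (r d : ℕ) where
  ζ : A
  E : Subgroup A
  X : (Fin (d + 1) → ZMod r) → A
  Y : (Fin (d + 1) → ZMod r) → A
  prime : r.Prime
  ne_two : r ≠ 2
  order : orderOf ζ = r
  zmem : ζ ∈ U
  normal : E.Normal
  le : U ≤ E
  centU : ∀ e ∈ E, ∀ x ∈ U, e * x = x * e
  memX : ∀ b, X b ∈ E
  memY : ∀ a, Y a ∈ E
  powX : ∀ b, X b ^ r = 1
  powY : ∀ a, Y a ^ r = 1
  addX : ∀ b b', X (b + b') = X b * X b'
  addY : ∀ a a', Y (a + a') = Y a * Y a'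
  rel : ∀ b a, X b * Y a = zp ζ (dot b a) * (Y a * X b)
  dec : ∀ g ∈ E, g ^ r = 1 → ∃ (c : ZMod r) (b a : Fin (d + 1) → ZMod r), g = zp ζ c * (X b * Y a)
  gen : ∀ g ∈ E, ∃ u ∈ U, ∃ (c : ZMod r) (b a : Fin (d + 1) → ZMod r), g = u * (zp ζ c * (X b * Y a))

theorem sympData_of_minimal (hsolv : Group.IsSolvable A) {U : Subgroup A} (F : FieldCase A V U)
    (hmax : ∀ W : Subgroup A, W.Normal → U ≤ W → (∀ x ∈ W, ∀ y ∈ W, x * y = y * x) → W = U)
    (E : Subgroup A) (hEn : E.Normal) (hUE : U < E) (hEC : E ≤ Subgroup.centralizer (U : Set A))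
    (hmin : ∀ K : Subgroup A, K.Normal → U ≤ K → K ≤ E → K = U ∨ K = E) (hsq : ∃ x ∈ E, x * x ∉ U) :
    ∃ r d, Nonempty (SympData A U r d) := by
  classical
  haveI := hsolv
  haveI := F.normal
  haveI := hEn
  have hEU : ∀ e ∈ E, ∀ x ∈ U, e * x = x * e := fun e he x hx =>
    (Subgroup.mem_centralizer_iff.1 (hEC he) x hx).symm
  -- commutators lie in `U`
  let q := QuotientGroup.mk' U
  have hcommU : ∀ x ∈ E, ∀ y ∈ E, x * y * x⁻¹ * y⁻¹ ∈ U := by
    have hle : ⁅E, E⁆ ⊔ U ≤ E := sup_le (Subgroup.commutator_le_self E) hUE.le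
    rcases hmin (⁅E, E⁆ ⊔ U) inferInstance le_sup_right hle with h | h
    · intro x hx y hy
      have h1 : x * y * x⁻¹ * y⁻¹ ∈ ⁅E, E⁆ ⊔ U := Subgroup.mem_sup_left
        (commutatorElement_def x y ▸ Subgroup.commutator_mem_commutator hx hy)
      rwa [h] at h1
    · exfalso
      have hperf : ⁅E.map q, E.map q⁆ = E.map q := by
        conv_rhs => rw [← h, Subgroup.map_sup, QuotientGroup.map_mk'_self, sup_bot_eq]
        rw [Subgroup.map_commutator]
      haveI : Group.IsSolvable (A ⧸ U) := solvable_of_surjective (QuotientGroup.mk'_surjective U)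
      by_cases hb : E.map q = ⊥
      · rw [Subgroup.map_eq_bot_iff, QuotientGroup.ker_mk'] at hb
        exact lt_irrefl _ (lt_of_lt_of_le hUE hb)
      · exact (IsSolvable.commutator_lt_of_ne_bot hb).ne hperf
  have hqc : ∀ x ∈ E, ∀ y ∈ E, Commute (q x) (q y) := fun x hx y hy => by
    have h : q (x * y * x⁻¹ * y⁻¹) = 1 := (QuotientGroup.eq_one_iff _).2 (hcommU x hx y hy)
    simp only [map_mul, map_inv] at h
    show q x * q y = q y * q x
    rw [← mul_inv_eq_one, mul_inv_rev, ← mul_assoc]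
    exact h
  have hmem : ∀ {x : A}, q x = 1 ↔ x ∈ U := fun {x} => QuotientGroup.eq_one_iff x
  -- exponent
  obtain ⟨x₀, hx₀E, hx₀U⟩ := SetLike.exists_of_lt hUE
  obtain ⟨r, hr, hrd⟩ := Nat.exists_prime_and_dvd (n := orderOf (q x₀))
    (fun h => hx₀U (hmem.1 (orderOf_eq_one_iff.1 h)))
  haveI : Fact r.Prime := ⟨hr⟩
  let Er : Subgroup A :=
    { carrier := {x | x ∈ E ∧ x ^ r ∈ U}
      one_mem' := ⟨one_mem _, by rw [one_pow]; exact one_mem _⟩
      mul_mem' := fun {x y} hx hy => ⟨mul_mem hx.1 hy.1, hmem.1 (by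
        rw [map_pow, map_mul, (hqc x hx.1 y hy.1).mul_pow, ← map_pow, ← map_pow, hmem.2 hx.2, hmem.2 hy.2,
          one_mul])⟩
      inv_mem' := fun {x} hx => ⟨inv_mem hx.1, by rw [inv_pow]; exact inv_mem hx.2⟩ }
  have hEr : ∀ x ∈ E, x ^ r ∈ U := by
    have hn : Er.Normal := ⟨fun x hx g => ⟨hEn.conj_mem x hx.1 g, by
      rw [conj_pow]; exact F.normal.conj_mem _ hx.2 g⟩⟩
    rcases hmin Er hn (fun x hx => ⟨hUE.le hx, pow_mem hx r⟩) (fun x hx => hx.1) with h | h
    · exfalso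
      obtain ⟨k, hk⟩ := hrd
      have hk0 : 0 < k := by
        rcases Nat.eq_zero_or_pos k with h0 | h0
        · exact absurd (by rw [hk, h0, mul_zero]) (orderOf_pos (q x₀)).ne'
        · exact h0
      have h1 : x₀ ^ k ∈ Er := ⟨pow_mem hx₀E k, hmem.1 (by
        rw [← pow_mul, mul_comm, ← hk, map_pow, pow_orderOf_eq_one])⟩
      rw [h, ← hmem, map_pow] at h1
      have := Nat.le_of_dvd hk0 (orderOf_dvd_of_pow_eq_one h1)
      rw [hk] at this
      have := hr.two_le
      nlinarith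
    · intro x hx
      have h1 : x ∈ Er := by rw [h]; exact hx
      exact h1.2
  -- the centre
  have hcent : ∀ x ∈ E, (∀ y ∈ E, x * y = y * x) → x ∈ U := by
    intro x hx hxc
    have hW : E ⊓ Subgroup.centralizer (E : Set A) = U := hmax _ inferInstance
      (fun u hu => ⟨hUE.le hu, Subgroup.mem_centralizer_iff.2 fun e he => hEU e he u hu⟩)
      (fun a ha b hb => Subgroup.mem_centralizer_iff.1 hb.2 a ha.1)
    rw [← hW]
    exact ⟨hx, Subgroup.mem_centralizer_iff.2 fun y hy => (hxc y hy).symm⟩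
  obtain ⟨x₁, hx₁, y₁, hy₁, hne⟩ : ∃ x ∈ E, ∃ y ∈ E, x * y ≠ y * x := by
    by_contra hno
    push Not at hno
    exact lt_irrefl _ (lt_of_lt_of_le hUE (hmax E hEn hUE.le hno).le)
  have hcr : ∀ x ∈ E, ∀ y ∈ E, (x * y * x⁻¹ * y⁻¹) ^ r = 1 := by
    intro x hx y hy
    set z := x * y * x⁻¹ * y⁻¹ with hz
    have hzU : z ∈ U := hcommU x hx y hy
    have h := pow_mul_pow_of_rel (show x * y = z * (y * x) by rw [hz]; group) (hEU x hx z hzU) (hEU y hy z hzU) r 1
    rw [pow_one, mul_one, ← hEU y hy _ (hEr x hx)] at h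
    exact mul_eq_right.1 h.symm
  set ζ := x₁ * y₁ * x₁⁻¹ * y₁⁻¹ with hζdef
  have hζU : ζ ∈ U := hcommU x₁ hx₁ y₁ hy₁
  have hζ : orderOf ζ = r := orderOf_eq_prime (hcr x₁ hx₁ y₁ hy₁) fun e => hne (by
    calc x₁ * y₁ = ζ * (y₁ * x₁) := by rw [hζdef]; group
      _ = y₁ * x₁ := by rw [e, one_mul])
  have hr2 : r ≠ 2 := by
    rintro rfl
    obtain ⟨x, hx, hx2⟩ := hsq
    exact hx2 (by rw [← sq]; exact hEr x hx)
  have hpowmul : ∀ x ∈ E, ∀ y ∈ E, (x * y) ^ r = x ^ r * y ^ r := by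
    intro x hx y hy
    set z := y * x * y⁻¹ * x⁻¹ with hz
    have hzU : z ∈ U := hcommU y hy x hx
    rw [mul_pow_of_rel (show y * x = z * (x * y) by rw [hz]; group) (hEU x hx z hzU) (hEU y hy z hzU)]
    obtain ⟨k, hk⟩ := hr.odd_of_ne_two hr2
    have : ∑ i ∈ Finset.range r, i = r * k := by
      rw [Finset.sum_range_id, show r - 1 = 2 * k by omega, ← mul_assoc, mul_comm r 2, mul_assoc,
        Nat.mul_div_cancel_left _ two_pos]
    rw [this, pow_mul, hcr y hy x hx, one_pow, one_mul]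
  -- every element is a scalar times an element of order `r`
  let K : Subgroup A :=
    { carrier := {x | x ∈ E ∧ ∃ u ∈ U, x ^ r = u ^ r}
      one_mem' := ⟨one_mem _, 1, one_mem _, rfl⟩
      mul_mem' := fun {x y} hx hy => ⟨mul_mem hx.1 hy.1, by
        obtain ⟨u, hu, eu⟩ := hx.2
        obtain ⟨v, hv, ev⟩ := hy.2
        exact ⟨u * v, mul_mem hu hv, by rw [hpowmul x hx.1 y hy.1, eu, ev, (show Commute u v from
          F.comm u hu v hv).mul_pow]⟩⟩
      inv_mem' := fun {x} hx => ⟨inv_mem hx.1, by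
        obtain ⟨u, hu, eu⟩ := hx.2
        exact ⟨u⁻¹, inv_mem hu, by rw [inv_pow, inv_pow, eu]⟩⟩ }
  have hK : ∀ x ∈ E, ∃ u ∈ U, x ^ r = u ^ r := by
    have hn : K.Normal := ⟨fun x hx g => ⟨hEn.conj_mem x hx.1 g, by
      obtain ⟨u, hu, eu⟩ := hx.2
      exact ⟨g * u * g⁻¹, F.normal.conj_mem u hu g, by rw [conj_pow, conj_pow, eu]⟩⟩⟩
    rcases hmin K hn (fun x hx => ⟨hUE.le hx, x, hx, rfl⟩) (fun x hx => hx.1) with h | h
    · exfalso
      haveI := F.cyclic
      obtain ⟨u₀, hu₀⟩ := IsCyclic.exists_monoid_generator (α := U)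
      have hidx : ∀ x ∈ E, ∃ i : ℕ, x ^ r = (u₀ : A) ^ i ∧ ((i : ZMod r) = 0 → x ∈ U) := by
        intro x hx
        obtain ⟨i, hi⟩ := Submonoid.mem_powers_iff _ _ |>.1 (hu₀ ⟨x ^ r, hEr x hx⟩)
        refine ⟨i, (congrArg Subtype.val hi).symm, fun h0 => ?_⟩
        obtain ⟨k, hk⟩ := (ZMod.natCast_eq_zero_iff i r).1 h0
        rw [← h]
        exact ⟨hx, (u₀ : A) ^ k, pow_mem u₀.2 k, by
          rw [← pow_mul, mul_comm, ← hk]; exact (congrArg Subtype.val hi).symm⟩
      refine hne ?_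
      obtain ⟨i, hi, hiU⟩ := hidx x₁ hx₁
      obtain ⟨j, hj, -⟩ := hidx y₁ hy₁
      rcases eq_or_ne (i : ZMod r) 0 with h0 | h0
      · exact (hEU y₁ hy₁ x₁ (hiU h0)).symm
      set n := ((j : ZMod r) * (i : ZMod r)⁻¹).val
      have hcong : ((n * i : ℕ) : ZMod r) = (j : ZMod r) := by
        rw [Nat.cast_mul, ZMod.natCast_zmod_val, mul_assoc, inv_mul_cancel₀ h0, mul_one]
      set w := (x₁ ^ n)⁻¹ * y₁
      have hw : w ∈ E := mul_mem (inv_mem (pow_mem hx₁ n)) hy₁
      obtain ⟨l, hl, hlU⟩ := hidx w hw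
      -- `w` has its power in the subgroup of powers
      have hwU : w ∈ U := by
        rw [← h]
        refine ⟨hw, ?_⟩
        rw [hpowmul _ (inv_mem (pow_mem hx₁ n)) _ hy₁, inv_pow, ← pow_mul, mul_comm n r, pow_mul, hi, hj,
          ← pow_mul]
        obtain ⟨t, ht⟩ : ∃ t : ℤ, (j : ℤ) - (i * n : ℕ) = r * t := by
          refine (ZMod.intCast_zmod_eq_zero_iff_dvd _ r).1 ?_
          push_cast
          rw [← hcong]; push_cast; ring
        refine ⟨(u₀ : A) ^ t, zpow_mem u₀.2 t, ?_⟩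
        rw [← zpow_natCast (u₀ : A) j, ← zpow_natCast (u₀ : A) (i * n), ← zpow_neg, ← zpow_add,
          ← zpow_natCast ((u₀ : A) ^ t), ← zpow_mul, mul_comm t, ← ht]
        congr 1; ring
      have hy : y₁ = x₁ ^ n * w := (mul_inv_cancel_left _ _).symm
      have := ((Commute.self_pow x₁ n).mul_right (show Commute x₁ w from hEU x₁ hx₁ w hwU)).eq
      rwa [← hy] at this
    · intro x hx
      have h1 : x ∈ K := by rw [h]; exact hx
      exact h1.2
  -- the part of exponent `r`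
  let E₀ : Subgroup A :=
    { carrier := {x | x ∈ E ∧ x ^ r = 1}
      one_mem' := ⟨one_mem _, one_pow _⟩
      mul_mem' := fun {x y} hx hy => ⟨mul_mem hx.1 hy.1, by rw [hpowmul x hx.1 y hy.1, hx.2, hy.2, one_mul]⟩
      inv_mem' := fun {x} hx => ⟨inv_mem hx.1, by rw [inv_pow, hx.2, inv_one]⟩ }
  have hsplit : ∀ x ∈ E, ∃ u ∈ U, ∃ g ∈ E₀, x = u * g := by
    intro x hx
    obtain ⟨u, hu, eu⟩ := hK x hx
    refine ⟨u, hu, u⁻¹ * x, ⟨mul_mem (inv_mem (hUE.le hu)) hx, ?_⟩, (mul_inv_cancel_left _ _).symm⟩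
    rw [hpowmul _ (inv_mem (hUE.le hu)) x hx, eu, inv_pow, inv_mul_cancel]
  have hζr : ζ ^ r = 1 := hcr x₁ hx₁ y₁ hy₁
  obtain ⟨d, X, Y, hX, hY, hXa, hYa, hXY, hdec⟩ := exists_coordinates (r := r) hζ E₀ (fun g hg => hg.2)
    ⟨hUE.le hζU, hζr⟩ (fun g hg => (hEU g hg.1 ζ hζU).symm) (fun g hg h hh => by
      obtain ⟨k, hk⟩ := F.eq_zp hζU hζ (hcommU g hg.1 h hh.1) (hcr g hg.1 h hh.1)
      exact ⟨k, by rw [← hk]; group⟩)
  have hdec' : ∀ g ∈ E₀, ∃ (c : ZMod r) (b a : Fin d → ZMod r), g = zp ζ c * (X b * Y a) := by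
    intro g hg
    obtain ⟨z, b, a, hz, hzc, e⟩ := hdec g hg
    have hzU : z ∈ U := hcent z hz.1 fun y hy => by
      obtain ⟨u, hu, g', hg', rfl⟩ := hsplit y hy
      rw [← mul_assoc, hEU z hz.1 u hu, mul_assoc, hzc g' hg', mul_assoc]
    obtain ⟨c, hc⟩ := F.eq_zp hζU hζ hzU hz.2
    exact ⟨c, b, a, by rw [e, hc]⟩
  have hd : d ≠ 0 := by
    rintro rfl
    refine hne ?_
    have key : ∀ x ∈ E, x ∈ U := fun x hx => by
      obtain ⟨u, hu, g, hg, rfl⟩ := hsplit x hx
      obtain ⟨c, b, a, rfl⟩ := hdec' g hg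
      have e1 : b = 0 := Subsingleton.elim _ _
      have e2 : a = 0 := Subsingleton.elim _ _
      subst e1 e2
      have hX0 : X 0 = 1 := by
        have h := hXa 0 0
        rw [add_zero] at h
        exact mul_eq_left.1 h.symm
      have hY0 : Y 0 = 1 := by
        have h := hYa 0 0
        rw [add_zero] at h
        exact mul_eq_left.1 h.symm
      rw [hX0, hY0, mul_one, mul_one]
      exact mul_mem hu (zp_mem hζU _)
    exact F.comm _ (key x₁ hx₁) _ (key y₁ hy₁)
  obtain ⟨d, rfl⟩ := Nat.exists_eq_succ_of_ne_zero hd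
  exact ⟨r, d, ⟨{
    ζ := ζ, E := E, X := X, Y := Y, prime := hr, ne_two := hr2, order := hζ, zmem := hζU, normal := hEn,
    le := hUE.le, centU := hEU, memX := fun b => (hX b).1, memY := fun a => (hY a).1,
    powX := fun b => (hX b).2, powY := fun a => (hY a).2, addX := hXa, addY := hYa, rel := hXY,
    dec := fun g hg hgr => hdec' g ⟨hg, hgr⟩,
    gen := fun g hg => by
      obtain ⟨u, hu, g', hg', e⟩ := hsplit g hg
      obtain ⟨c, b, a, e'⟩ := hdec' g' hg'
      exact ⟨u, hu, c, b, a, by rw [e, e']⟩ }⟩⟩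

theorem exists_sympData (hA : Odd (Nat.card A)) (hsolv : Group.IsSolvable A) {U : Subgroup A}
    (F : FieldCase A V U)
    (hmax : ∀ W : Subgroup A, W.Normal → U ≤ W → (∀ x ∈ W, ∀ y ∈ W, x * y = y * x) → W = U)
    (hC : Subgroup.centralizer (U : Set A) ≠ U) : ∃ r d, Nonempty (SympData A U r d) := by
  classical
  haveI := F.normal
  set C := Subgroup.centralizer (U : Set A) with hCdef
  have hUC : U ≤ C := fun x hx => Subgroup.mem_centralizer_iff.2 fun y hy => F.comm y hy x hx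
  obtain ⟨E, hE, hEmin⟩ := Set.Finite.exists_minimal (s := {E : Subgroup A | E.Normal ∧ U < E ∧ E ≤ C})
    (Set.toFinite _) ⟨C, (inferInstance : (Subgroup.centralizer (U : Set A)).Normal),
      lt_of_le_of_ne hUC hC.symm, le_rfl⟩
  obtain ⟨hEn, hUE, hEC⟩ := hE
  obtain ⟨x, hxE, hxU⟩ := SetLike.exists_of_lt hUE
  refine sympData_of_minimal hsolv F hmax E hEn hUE hEC (fun K hK hUK hKE => ?_)
    ⟨x, hxE, fun h => hxU (eq_of_sq hA U (by rwa [sq]))⟩
  rcases eq_or_lt_of_le hUK with h | h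
  · exact Or.inl h.symm
  · exact Or.inr (le_antisymm hKE (hEmin ⟨hK, h, hKE.trans hEC⟩ hKE))

end CfsgLib.BaseTwo
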