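import Cfsg.Agent.Lib.BaseTwo.Basic
import Cfsg.Agent.Lib.Solvable.MinNormal

/-!
Gluck: a group of odd order has a regular orbit on subsets, given bases of size two for smaller linear groups.
-/

set_option autoImplicit false
set_option linter.unusedSectionVars false

namespace CfsgLib.BaseTwo

universe u

variable {A Ω : Type u} [Group A] [Finite A] [Finite Ω] [MulAction A Ω]

/-- separation of two orbits -/
theorem exists_subset_of_invariant {N : ℕ} (hA : Odd (Nat.card A)) (hcard : Nat.card A ≤ N)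
    (ih : ∀ (Ω' : Type u) [Finite Ω'] [MulAction A Ω'], Nat.card Ω' < Nat.card Ω →
      ∃ T : Set Ω', ∀ a : A, (∀ x, a • x ∈ T ↔ x ∈ T) → ∀ x : Ω', a • x = x)
    (P : SubMulAction A Ω) (h1 : ∃ x, x ∈ P) (h2 : ∃ x, x ∉ P) :
    ∃ T : Set Ω, ∀ a : A, (∀ x, a • x ∈ T ↔ x ∈ T) → ∀ x : Ω, a • x = x := by
  classical
  let P' : SubMulAction A Ω :=
    { carrier := {x | x ∉ P}
      smul_mem' := fun a x hx h => hx ((P.smul_mem_iff' (g := a)).1 h) }
  obtain ⟨T₁, hT₁⟩ := ih P (Finite.card_subtype_lt (x := h2.choose) h2.choose_spec)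
  obtain ⟨T₂, hT₂⟩ := ih P' (Finite.card_subtype_lt (x := h1.choose) (fun h => h h1.choose_spec))
  refine ⟨{x | if h : x ∈ P then (⟨x, h⟩ : P) ∈ T₁ else (⟨x, h⟩ : P') ∈ T₂}, fun a ha x => ?_⟩
  by_cases hx : x ∈ P
  · refine congrArg Subtype.val (hT₁ a (fun y => ?_) ⟨x, hx⟩)
    have h := ha (y : Ω)
    have hy : a • (y : Ω) ∈ P := P.smul_mem a y.2
    simp only [Set.mem_setOf_eq, dif_pos hy, dif_pos y.2] at h
    exact h
  · refine congrArg Subtype.val (hT₂ a (fun y => ?_) (⟨x, hx⟩ : P'))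
    have h := ha (y : Ω)
    have hy : a • (y : Ω) ∉ P := P'.smul_mem a y.2
    have hy' : (y : Ω) ∉ P := y.2
    simp only [Set.mem_setOf_eq, dif_neg hy, dif_neg hy'] at h
    exact h

/-- the regular abelian case -/
theorem exists_subset_regular {N : ℕ} (hA : Odd (Nat.card A)) (hcard : Nat.card A ≤ N) (hL : LinHyp.{u} (N - 1))
    (hfaith : ∀ a : A, (∀ x : Ω, a • x = x) → a = 1) (M : Subgroup A) [hMn : M.Normal] (hM : M ≠ ⊥)
    (hMc : ∀ x ∈ M, ∀ y ∈ M, x * y = y * x)
    (hmin : ∀ K : Subgroup A, K.Normal → K ≤ M → K = ⊥ ∨ K = M) (ω : Ω)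
    (htr : ∀ x : Ω, ∃ m ∈ M, m • ω = x) :
    ∃ T : Set Ω, ∀ a : A, (∀ x, a • x ∈ T ↔ x ∈ T) → ∀ x : Ω, a • x = x := by
  classical
  have reg : ∀ m ∈ M, m • ω = ω → m = 1 := fun m hm h => hfaith m fun x => by
    obtain ⟨k, hk, rfl⟩ := htr x
    rw [← mul_smul, hMc m hm k hk, mul_smul, h]
  have inj : ∀ m ∈ M, ∀ k ∈ M, m • ω = k • ω → m = k := fun m hm k hk h =>
    (inv_mul_eq_one.1 (reg (k⁻¹ * m) (mul_mem (inv_mem hk) hm) (by rw [mul_smul, h, inv_smul_smul]))).symm
  have hfix : ∀ {a : A}, a • ω = ω → ∀ m : A, (a * m * a⁻¹) • ω = a • m • ω := fun {a} ha m => by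
    have h : a⁻¹ • ω = ω := inv_smul_eq_iff.2 ha.symm
    rw [mul_smul, mul_smul, h]
  let H := MulAction.stabilizer A ω
  letI : CommGroup M := { (inferInstance : Group M) with mul_comm := fun x y => Subtype.ext (hMc x x.2 y y.2) }
  letI : DistribMulAction H (Additive M) :=
    { smul := fun a x => Additive.ofMul ⟨(a : A) * (x.toMul : M) * (a : A)⁻¹, hMn.conj_mem _ x.toMul.2 _⟩
      one_smul := fun x => Additive.toMul.injective (Subtype.ext (show (1 : A) * _ * (1 : A)⁻¹ = _ by simp))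
      mul_smul := fun a b x => Additive.toMul.injective (Subtype.ext
        (show ((a : A) * b) * _ * ((a : A) * b)⁻¹ = (a : A) * ((b : A) * _ * (b : A)⁻¹) * (a : A)⁻¹ by group))
      smul_zero := fun a => Additive.toMul.injective (Subtype.ext
        (show (a : A) * (1 : A) * (a : A)⁻¹ = 1 by group))
      smul_add := fun a x y => Additive.toMul.injective (Subtype.ext
        (show (a : A) * ((x.toMul : M) * (y.toMul : M) : A) * (a : A)⁻¹ =
          ((a : A) * (x.toMul : M) * (a : A)⁻¹) * ((a : A) * (y.toMul : M) * (a : A)⁻¹) by group)) }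
  have hHlt : Nat.card H ≤ N - 1 := by
    have hne : H ≠ ⊤ := fun e => hM ((Subgroup.eq_bot_iff_forall _).2 fun m hm => reg m hm
      (show m ∈ H by rw [e]; trivial))
    have hlt : Nat.card H < Nat.card A :=
      lt_of_le_of_ne (Subgroup.card_le_card_group H) fun e => hne ((Subgroup.card_eq_iff_eq_top H).1 e)
    omega
  have hcr : CROn (⊤ : Subgroup H) (⊤ : AddSubgroup (Additive M)) := by
    intro U _ hU
    let U₀ : Subgroup A := (U.toSubgroup').map M.subtype
    have hU₀M : U₀ ≤ M := by rintro _ ⟨x, -, rfl⟩; exact x.2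
    have hmem : ∀ x : M, (x : A) ∈ U₀ ↔ Additive.ofMul x ∈ U := fun x => by
      constructor
      · rintro ⟨y, hy, e⟩
        rw [show y = x from Subtype.ext e] at hy
        exact hy
      · exact fun h => ⟨x, h, rfl⟩
    have hn : U₀.Normal := ⟨fun n hn g => by
      obtain ⟨m, hm, hmg⟩ := htr (g • ω)
      have hh : m⁻¹ * g ∈ H := by
        rw [MulAction.mem_stabilizer_iff, mul_smul, ← hmg, inv_smul_smul]
      have hnM := hU₀M hn
      have h1 : (m⁻¹ * g) * n * (m⁻¹ * g)⁻¹ ∈ U₀ := by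
        have := hU (⟨m⁻¹ * g, hh⟩ : H) trivial (Additive.ofMul ⟨n, hnM⟩) ((hmem ⟨n, hnM⟩).1 hn)
        exact (hmem ⟨_, hMn.conj_mem n hnM _⟩).2 this
      have h2 : g * n * g⁻¹ = (m⁻¹ * g) * n * (m⁻¹ * g)⁻¹ := by
        have hc := hMc m hm _ (hMn.conj_mem n hnM (m⁻¹ * g))
        calc g * n * g⁻¹ = m * ((m⁻¹ * g) * n * (m⁻¹ * g)⁻¹) * m⁻¹ := by group
          _ = _ := by rw [hc]; group
      rw [h2]; exact h1⟩
    have hcases : U = ⊥ ∨ U = ⊤ := by
      rcases hmin U₀ hn hU₀M with h | h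
      · refine Or.inl ((AddSubgroup.eq_bot_iff_forall _).2 fun x hx => ?_)
        have h' : ((x.toMul : M) : A) ∈ U₀ := (hmem _).2 hx
        rw [h, Subgroup.mem_bot] at h'
        exact Additive.toMul.injective (Subtype.ext h')
      · refine Or.inr (eq_top_iff.2 fun x _ => (hmem x.toMul).1 ?_)
        rw [h]; exact x.toMul.2
    rcases hcases with rfl | rfl
    · exact ⟨⊤, le_rfl, fun _ _ _ _ => trivial, bot_inf_eq _, bot_sup_eq _⟩
    · exact ⟨⊥, bot_le, fun a _ x hx => by rw [AddSubgroup.mem_bot] at hx ⊢; rw [hx, smul_zero],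
        inf_bot_eq _, sup_bot_eq _⟩
  obtain ⟨x₁, -, x₂, -, hb⟩ := hL H (Additive M) (odd_subgroup hA H) hHlt hcr
  obtain ⟨⟨m₁, hm₁⟩, rfl⟩ := Additive.ofMul.surjective x₁
  obtain ⟨⟨m₂, hm₂⟩, rfl⟩ := Additive.ofMul.surjective x₂
  have pw : ∀ a : A, a • ω = ω → a • m₁ • ω = m₁ • ω → a • m₂ • ω = m₂ • ω → a = 1 := by
    intro a ha h1 h2
    have e : ∀ m ∈ M, a • m • ω = m • ω → a * m * a⁻¹ = m := fun m hm h =>
      inj _ (hMn.conj_mem m hm a) m hm (by rw [hfix ha, h])
    have h := hb ⟨a, ha⟩ trivial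
      (Additive.toMul.injective (Subtype.ext (e m₁ hm₁ h1)))
      (Additive.toMul.injective (Subtype.ext (e m₂ hm₂ h2)))
    refine hfaith a fun x => ?_
    obtain ⟨m, hm, rfl⟩ := htr x
    have hx : a * m * a⁻¹ = m :=
      congrArg (fun z : Additive M => ((z.toMul : M) : A)) (h (Additive.ofMul ⟨m, hm⟩) trivial)
    rw [← hfix ha, hx]
  set p := m₁ • ω with hp
  set q := m₂ • ω with hq
  -- two-element sets
  have small : ∀ y z : Ω, (∀ a : A, a • y = y → a • z = z → a = 1) →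
      ∃ T : Set Ω, ∀ a : A, (∀ x, a • x ∈ T ↔ x ∈ T) → ∀ x : Ω, a • x = x := by
    intro y z h
    refine ⟨{y, z}, fun a ha x => ?_⟩
    have hy : a • y = y ∨ a • y = z := by simpa using (ha y).2 (Or.inl rfl)
    have hz : a • z = y ∨ a • z = z := by simpa using (ha z).2 (Or.inr rfl)
    have hy' : a • y = y := by
      rcases hy with e | e
      · exact e
      · refine smul_eq_of_sq hA ?_
        rw [e]
        rcases hz with e' | e'
        · exact e'
        · rw [e', ← smul_left_cancel a (e.trans e'.symm)]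
    have hz' : a • z = z := by
      rcases hz with e | e
      · refine smul_eq_of_sq hA ?_
        rw [e]
        rcases hy with e' | e'
        · rw [e', smul_left_cancel a (e'.trans e.symm)]
        · exact e'
      · exact e
    rw [h a hy' hz', one_smul]
  rcases eq_or_ne p ω with e1 | n1
  · exact small ω q fun a ha h2 => pw a ha (by rw [e1]; exact ha) h2
  rcases eq_or_ne q ω with e2 | n2
  · exact small ω p fun a ha h1 => pw a ha h1 (by rw [e2]; exact ha)
  rcases eq_or_ne p q with e3 | n3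
  · exact small ω p fun a ha h1 => pw a ha h1 (by rw [← e3]; exact h1)
  -- a three-cycle on `ω, y, z`
  have cyc : ∀ y z : Ω, y ≠ ω → z ≠ ω → y ≠ z → (∀ a : A, a • ω = ω → a • y = y → a • z = z → a = 1) →
      ∀ a : A, (∀ x, a • x ∈ ({ω, y, z} : Set Ω) ↔ x ∈ ({ω, y, z} : Set Ω)) → a ≠ 1 →
      ∃ b : A, b • ω = y ∧ b • y = z ∧ b • z = ω := by
    intro y z hy hz hyz hpw a ha hne
    have hsq : ∀ {x : Ω}, a • a • x = x → a • x = x := fun h => smul_eq_of_sq hA h
    have io : a • ω = ω ∨ a • ω = y ∨ a • ω = z := by simpa using (ha ω).2 (by simp)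
    have iy : a • y = ω ∨ a • y = y ∨ a • y = z := by simpa using (ha y).2 (by simp)
    have iz : a • z = ω ∨ a • z = y ∨ a • z = z := by simpa using (ha z).2 (by simp)
    have noinj : ∀ {x x' : Ω}, x ≠ x' → a • x ≠ a • x' := fun h e => h (smul_left_cancel a e)
    rcases io with o | o | o
    · exfalso
      rcases iy with e | e | e
      · exact noinj hy (e.trans o.symm)
      · rcases iz with e' | e' | e'
        · exact noinj hz (e'.trans o.symm)
        · exact noinj hyz (e.trans e'.symm)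
        · exact hne (hpw a o e e')
      · rcases iz with e' | e' | e'
        · exact noinj hz (e'.trans o.symm)
        · exact hyz ((hsq (x := y) (by rw [e, e'])).symm.trans e)
        · exact noinj hyz (e.trans e'.symm)
    · rcases iy with e | e | e
      · exact absurd ((hsq (x := ω) (by rw [o, e])).symm.trans o) hy.symm
      · exact absurd (o.trans e.symm) (noinj hy.symm)
      · refine ⟨a, o, e, ?_⟩
        rcases iz with e' | e' | e'
        · exact e'
        · exact absurd (o.trans e'.symm) (noinj hz.symm)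
        · exact absurd (e.trans e'.symm) (noinj hyz)
    · rcases iz with e | e | e
      · exact absurd ((hsq (x := ω) (by rw [o, e])).symm.trans o) hz.symm
      · have ey : a • y = ω := by
          rcases iy with e' | e' | e'
          · exact e'
          · exact absurd (e.trans e'.symm) (noinj hyz.symm)
          · exact absurd (o.trans e'.symm) (noinj hy.symm)
        exact ⟨a * a, by rw [mul_smul, o, e], by rw [mul_smul, ey, o], by rw [mul_smul, e, ey]⟩
      · exact absurd (o.trans e.symm) (noinj hz.symm)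
  set q' := m₂⁻¹ • ω with hq'
  by_contra hno
  push Not at hno
  have pw' : ∀ a : A, a • ω = ω → a • p = p → a • q' = q' → a = 1 := fun a ha h1 h2 => by
    refine pw a ha h1 ?_
    have e : a * m₂⁻¹ * a⁻¹ = m₂⁻¹ :=
      inj _ (hMn.conj_mem _ (inv_mem hm₂) a) _ (inv_mem hm₂) (by rw [hfix ha]; exact h2)
    have e' : a * m₂ * a⁻¹ = m₂ := inv_injective (by rw [← e]; group)
    rw [hq, ← hfix ha, e']
  have n2' : q' ≠ ω := fun e => n2 (by rw [hq]; exact (inv_smul_eq_iff.1 e).symm)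
  rcases eq_or_ne p q' with e3' | n3'
  · obtain ⟨T, hT⟩ := small ω p fun a ha h1 => pw' a ha h1 (by rw [← e3']; exact h1)
    obtain ⟨a, ha, x, hx⟩ := hno T
    exact hx (hT a ha x)
  obtain ⟨a, ha, x, hx⟩ := hno {ω, p, q}
  obtain ⟨b, bo, bp, bq⟩ := cyc p q n1 n2 n3 pw a ha (fun e => hx (by rw [e, one_smul]))
  obtain ⟨a', ha', x', hx'⟩ := hno {ω, p, q'}
  obtain ⟨b', bo', bp', bq'⟩ := cyc p q' n1 n2' n3' pw' a' ha' (fun e => hx' (by rw [e, one_smul]))
  -- the linear parts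
  set L := m₁⁻¹ * b with hL'
  set L' := m₁⁻¹ * b' with hL''
  have hLo : L • ω = ω := by rw [mul_smul, bo, hp, inv_smul_smul]
  have hLo' : L' • ω = ω := by rw [mul_smul, bo', hp, inv_smul_smul]
  have l1 : L * m₂ * L⁻¹ = m₁⁻¹ := inj _ (hMn.conj_mem _ hm₂ _) _ (inv_mem hm₁) (by
    rw [hfix hLo, ← hq, mul_smul, bq])
  have l1' : L' * m₁ * L'⁻¹ = m₁⁻¹ * m₂⁻¹ := inj _ (hMn.conj_mem _ hm₁ _) _
    (mul_mem (inv_mem hm₁) (inv_mem hm₂)) (by rw [hfix hLo', ← hp, mul_smul, bp', mul_smul])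
  have l2' : L' * m₂⁻¹ * L'⁻¹ = m₁⁻¹ := inj _ (hMn.conj_mem _ (inv_mem hm₂) _) _ (inv_mem hm₁) (by
    rw [hfix hLo', ← hq', mul_smul, bq'])
  have l3' : L'⁻¹ * m₁ * L' = m₂ := by
    have e : L' * m₂ * L'⁻¹ = m₁ := inv_injective (by rw [← l2']; group)
    rw [← e]; group
  set g := L * L'⁻¹
  have hg : g * m₁ * g⁻¹ = m₁⁻¹ := by
    rw [← l1, ← l3']
    simp only [g]
    group
  have hg2 : g ^ 2 ∈ Subgroup.centralizer ({m₁} : Set A) := by
    rw [Subgroup.mem_centralizer_singleton_iff]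
    have : g * (g * m₁ * g⁻¹) * g⁻¹ = m₁ := by
      rw [hg]
      calc g * m₁⁻¹ * g⁻¹ = (g * m₁ * g⁻¹)⁻¹ := by group
        _ = m₁ := by rw [hg, inv_inv]
    rw [sq]
    calc g * g * m₁ = (g * (g * m₁ * g⁻¹) * g⁻¹) * (g * g) := by group
      _ = m₁ * (g * g) := by rw [this]
  have hgc := Subgroup.mem_centralizer_singleton_iff.1 (eq_of_sq hA _ hg2)
  have hm : m₁ = m₁⁻¹ := by
    calc m₁ = (m₁ * g) * g⁻¹ := by group
      _ = m₁⁻¹ := by rw [← hg]; simp only [hgc]
  have hm2 : m₁ ^ 2 ∈ (⊥ : Subgroup A) := by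
    rw [Subgroup.mem_bot, sq]
    conv_lhs => arg 2; rw [hm]
    exact mul_inv_cancel m₁
  have hm1 : m₁ = 1 := Subgroup.mem_bot.1 (eq_of_sq hA _ hm2)
  exact n1 (by rw [hp, hm1, one_smul])

/-- the block case -/
theorem exists_subset_blocks {N : ℕ} (hA : Odd (Nat.card A)) (hcard : Nat.card A ≤ N)
    (hG : ∀ m < N, SubHyp.{u} m)
    (ih : ∀ (Ω' : Type u) [Finite Ω'] [MulAction A Ω'], Nat.card Ω' < Nat.card Ω →
      ∃ T : Set Ω', ∀ a : A, (∀ x, a • x ∈ T ↔ x ∈ T) → ∀ x : Ω', a • x = x)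
    {Ω' : Type u} [Finite Ω'] [MulAction A Ω'] (f : Ω → Ω') (hf : ∀ (a : A) x, f (a • x) = a • f x)
    (hsurj : Function.Surjective f) (htr : ∀ x y : Ω, ∃ a : A, a • x = y) (hninj : ¬ Function.Injective f)
    (hnc : ∃ x y, f x ≠ f y) :
    ∃ T : Set Ω, ∀ a : A, (∀ x, a • x ∈ T ↔ x ∈ T) → ∀ x : Ω, a • x = x := by
  classical
  haveI := Fintype.ofFinite Ω
  haveI := Fintype.ofFinite Ω'
  have hlt : Nat.card Ω' < Nat.card Ω := by
    rw [Nat.card_eq_fintype_card, Nat.card_eq_fintype_card]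
    refine lt_of_le_of_ne (Fintype.card_le_of_surjective f hsurj) fun e => hninj ?_
    exact ((Fintype.bijective_iff_surjective_and_card f).2 ⟨hsurj, e.symm⟩).1
  obtain ⟨T', hT'⟩ := ih Ω' hlt
  obtain ⟨ω, z, hωz⟩ := hnc
  let i₀ := f ω
  let H := MulAction.stabilizer A i₀
  have htr' : ∀ i : Ω', ∃ a : A, a • i₀ = i := fun i => by
    obtain ⟨x, rfl⟩ := hsurj i
    obtain ⟨a, rfl⟩ := htr ω x
    exact ⟨a, (hf a ω).symm⟩
  choose t ht using htr'
  have hHlt : Nat.card H < N := by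
    have hne : H ≠ ⊤ := fun e => hωz (by
      obtain ⟨a, rfl⟩ := htr ω z
      rw [hf]
      exact (show a ∈ H by rw [e]; trivial : a • i₀ = i₀).symm)
    have hlt : Nat.card H < Nat.card A :=
      lt_of_le_of_ne (Subgroup.card_le_card_group H) fun e => hne ((Subgroup.card_eq_iff_eq_top H).1 e)
    omega
  let B := {x : Ω // f x = i₀}
  letI : MulAction H B :=
    { smul := fun a x => ⟨(a : A) • (x : Ω), by rw [hf, x.2]; exact a.2⟩
      one_smul := fun x => Subtype.ext (one_smul A (x : Ω))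
      mul_smul := fun a b x => Subtype.ext (mul_smul (a : A) b (x : Ω)) }
  obtain ⟨T₀, hT₀⟩ := hG (Nat.card H) hHlt H B (odd_subgroup hA H) le_rfl
  let z₀ : B := ⟨ω, rfl⟩
  -- no element exchanges the colours
  have hsep : ∀ h : H, ¬ ∀ x : B, h • x ∈ T₀ ↔ x ∉ T₀ := by
    intro h hh
    have h2 : ∀ x : B, (h * h) • x ∈ T₀ ↔ x ∈ T₀ := fun x => by
      rw [mul_smul, hh, hh, not_not]
    have := smul_eq_of_sq (odd_subgroup hA H) (a := h) (x := z₀) (by rw [← mul_smul]; exact hT₀ _ h2 z₀)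
    have h' := hh z₀
    rw [this] at h'
    exact iff_not_self h'
  have hback : ∀ x, f ((t (f x))⁻¹ • x) = i₀ := fun x => by
    rw [hf, inv_smul_eq_iff, ht]
  let col : Ω → B := fun x => ⟨_, hback x⟩
  refine ⟨{x | (col x ∈ T₀) ↔ f x ∈ T'}, fun a ha => ?_⟩
  -- the element carrying one block to another
  have hmem : ∀ i, (t (a • i))⁻¹ * a * t i ∈ H := fun i => by
    rw [MulAction.mem_stabilizer_iff, mul_smul, mul_smul, ht, inv_smul_eq_iff, ht]
  have hcol : ∀ i (x : B), col (a • t i • (x : Ω)) = (⟨_, hmem i⟩ : H) • x ∧ f (a • t i • (x : Ω)) = a • i ∧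
      col (t i • (x : Ω)) = x ∧ f (t i • (x : Ω)) = i := by
    intro i x
    have e1 : f (t i • (x : Ω)) = i := by rw [hf, x.2, ht]
    have e2 : f (a • t i • (x : Ω)) = a • i := by rw [hf, e1]
    refine ⟨Subtype.ext ?_, e2, Subtype.ext ?_, e1⟩
    · show (t (f _))⁻¹ • a • t i • (x : Ω) = ((t (a • i))⁻¹ * a * t i) • (x : Ω)
      rw [e2, mul_smul, mul_smul]
    · show (t (f _))⁻¹ • t i • (x : Ω) = x
      rw [e1, inv_smul_smul]
  have hkey : ∀ i (x : B), ((((⟨_, hmem i⟩ : H) • x) ∈ T₀) ↔ a • i ∈ T') ↔ (x ∈ T₀ ↔ i ∈ T') := fun i x => by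
    have h := ha (t i • (x : Ω))
    obtain ⟨c1, c2, c3, c4⟩ := hcol i x
    simp only [Set.mem_setOf_eq, c1, c2, c3, c4] at h
    exact h
  have hT : ∀ i, (a • i ∈ T' ↔ i ∈ T') := fun i => by
    by_contra hd
    exact hsep ⟨_, hmem i⟩ fun x => by have := hkey i x; tauto
  have hfix := hT' a hT
  intro x
  obtain ⟨y, hy⟩ : ∃ y : B, t (f x) • (y : Ω) = x := ⟨col x, smul_inv_smul _ _⟩
  have h0 := hT₀ ⟨_, hmem (f x)⟩ (fun z => by
    have := hkey (f x) z
    have := hT (f x)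
    tauto) y
  have h1 : ((t (a • f x))⁻¹ * a * t (f x)) • (y : Ω) = y := congrArg Subtype.val h0
  rw [hfix, mul_smul, mul_smul, inv_smul_eq_iff, hy] at h1
  exact h1

/-- Gluck's step -/
theorem subHyp_step (hsolv : ∀ (G : Type u) [Group G] [Finite G], Odd (Nat.card G) → Group.IsSolvable G)
    {N : ℕ} (hL : LinHyp.{u} (N - 1)) (hG : ∀ m < N, SubHyp.{u} m) : SubHyp.{u} N := by
  intro A Ω _ _ _ _ hA hcard
  obtain ⟨n, hn⟩ : ∃ n, Nat.card Ω = n := ⟨_, rfl⟩
  induction n using Nat.strong_induction_on generalizing Ω with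
  | _ n ih =>
    classical
    have ih' : ∀ (Ω' : Type u) [Finite Ω'] [MulAction A Ω'], Nat.card Ω' < Nat.card Ω →
        ∃ T : Set Ω', ∀ a : A, (∀ x, a • x ∈ T ↔ x ∈ T) → ∀ x : Ω', a • x = x :=
      fun Ω' _ _ h => ih _ (hn ▸ h) Ω' rfl
    by_cases htriv : ∀ (a : A) (x : Ω), a • x = x
    · exact ⟨∅, fun a _ x => htriv a x⟩
    push Not at htriv
    obtain ⟨a₀, ω, ha₀⟩ := htriv
    by_cases htr : ∀ x : Ω, ∃ a : A, a • ω = x
    swap
    · exact exists_subset_of_invariant hA hcard ih'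
        { carrier := MulAction.orbit A ω, smul_mem' := fun a x hx => MulAction.mem_orbit_of_mem_orbit a hx }
        ⟨ω, MulAction.mem_orbit_self ω⟩ (by
          push Not at htr
          obtain ⟨x, hx⟩ := htr
          exact ⟨x, fun ⟨a, ha⟩ => hx a ha⟩)
    have htr2 : ∀ x y : Ω, ∃ a : A, a • x = y := fun x y => by
      obtain ⟨a, rfl⟩ := htr x
      obtain ⟨b, rfl⟩ := htr y
      exact ⟨b * a⁻¹, by rw [mul_smul, inv_smul_smul]⟩
    let φ := MulAction.toPermHom A Ω
    by_cases hfaith : ∀ a : A, (∀ x : Ω, a • x = x) → a = 1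
    swap
    · -- the action is through a smaller group
      push Not at hfaith
      obtain ⟨b, hb, hb1⟩ := hfaith
      have hodd : Odd (Nat.card φ.range) := hA.of_dvd_nat (Subgroup.card_range_dvd φ)
      have hlt : Nat.card φ.range < N := by
        have h1 : φ.ker ≠ ⊥ := fun e => hb1 (by
          have : b ∈ φ.ker := Equiv.ext hb
          rwa [e, Subgroup.mem_bot] at this)
        have h2 := φ.ker.card_eq_card_quotient_mul_card_subgroup
        rw [Nat.card_congr (QuotientGroup.quotientKerEquivRange φ).toEquiv] at h2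
        have h3 : 1 < Nat.card φ.ker := (Subgroup.one_lt_card_iff_ne_bot _).2 h1
        have h4 : 0 < Nat.card φ.range := Nat.card_pos
        have h5 : Nat.card φ.range * 1 < Nat.card φ.range * Nat.card φ.ker := Nat.mul_lt_mul_of_pos_left h3 h4
        omega
      obtain ⟨T, hT⟩ := hG _ hlt φ.range Ω hodd le_rfl
      exact ⟨T, fun a ha x => hT ⟨φ a, a, rfl⟩ ha x⟩
    haveI := hsolv A hA
    haveI : Nontrivial A := ⟨⟨a₀, 1, fun e => ha₀ (by rw [e, one_smul])⟩⟩
    obtain ⟨M, hMn, hM, hmin⟩ := CfsgLib.Solvable.exists_minimal_normal (G := A)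
    haveI := hMn
    have hMc := CfsgLib.Solvable.isMulCommutative_of_minimal_normal hM hmin
    have hMc' : ∀ x ∈ M, ∀ y ∈ M, x * y = y * x := fun x hx y hy =>
      congrArg Subtype.val (hMc.is_comm.comm (⟨x, hx⟩ : M) ⟨y, hy⟩)
    by_cases hMt : ∀ x : Ω, ∃ m ∈ M, m • ω = x
    · exact exists_subset_regular hA hcard hL hfaith M hM hMc' hmin ω hMt
    -- blocks
    letI setoidM : Setoid Ω := MulAction.orbitRel M Ω
    let Ω' := Quotient setoidM
    letI : MulAction A Ω' :=
      { smul := fun a => Quotient.map (fun x => a • x) fun x y h => by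
          obtain ⟨m, hm⟩ := h
          refine ⟨⟨a * (m : A) * a⁻¹, hMn.conj_mem _ m.2 a⟩, ?_⟩
          show (a * (m : A) * a⁻¹) • a • y = a • x
          rw [mul_smul, mul_smul, inv_smul_smul, ← show (m : A) • y = x from hm]
        one_smul := fun i => Quotient.inductionOn i fun x => congrArg (Quotient.mk _) (one_smul A x)
        mul_smul := fun a b i => Quotient.inductionOn i fun x => congrArg (Quotient.mk _) (mul_smul a b x) }
    haveI : Finite Ω' := Quotient.finite _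
    refine exists_subset_blocks hA hcard hG ih' (Quotient.mk setoidM) (fun a x => rfl)
      Quotient.mk_surjective htr2 (fun hinj => ?_) ?_
    · refine hM ((Subgroup.eq_bot_iff_forall _).2 fun m hm => hfaith m fun x => ?_)
      exact hinj (Quotient.sound ⟨⟨m, hm⟩, rfl⟩)
    · push Not at hMt
      obtain ⟨x, hx⟩ := hMt
      exact ⟨x, ω, fun e => by
        obtain ⟨m, hm⟩ := Quotient.exact e
        exact hx m m.2 hm⟩

end CfsgLib.BaseTwo
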